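import Mathlib
import Cfsg.Agent.LieClassical.HermBasic
import Cfsg.Agent.ClassicalGeometry.HermFrame
import Cfsg.Agent.H880.ClPsuF
import Cfsg.Agent.H478.RadTools_m3
import Cfsg.Agent.Schreier.PSU
import Cfsg.Agent.SignalizersComponents.SLQuasisimple
import Cfsg.Agent.SignalizersComponents.QuasisimpleQuotient
import Cfsg.Agent.GenPsu.Psu_m3
import Cfsg.Agent.S0815
import Cfsg.Agent.S0280
import Cfsg.Agent.S0242
import Cfsg.Agent.FastGrp
import Cfsg.Agent.Prune
set_option linter.all false
prune_inst 0x7fffbcff7bf8ffdedfff7e7ffedfdffdfdbb3fffeffff9cbffe863ff0bdf4b0849c56bad8feb91fe1ef7e29410fc7b53fffffeffea6ffc7ffffdfff45ffbff8ffdf6bd0851978c340fbc2fff03f0778e7f3fffffffffffffffffffffffffffbeffffffffffff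
open scoped Cfsg.Agent.FastGrp

-- part: H454/PsuThreeA
section
/-!
# Unipotent isometries of a Hermitian space of dimension four in characteristic three (helper454)

`exists_pair` : `T : V → V`, `V = F ^ 4`, `1 + T` an isometry, `T ^ 3 = 0`, the kernel of `T` totally isotropic. There are vectors
`v`, `w` such that `v, T v, w, T w` span `V` and have a simple Gram matrix.
-/

set_option autoImplicit false
set_option linter.unusedSectionVars false

namespace Cfsg.Agent.H454.PsuThree

open Matrix Module Cfsg Cfsg.Agent.LieClassical.HermBasic Cfsg.Agent.ClassicalGeometry.HermFrame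

variable {F : Type*} [Field F]

/-- the kernel of a nilpotent map with `T ^ 3 = 0` on a space of dimension four has dimension at least two -/
theorem two_le_finrank_ker {V : Type*} [AddCommGroup V] [Module F V] [FiniteDimensional F V] (hV : finrank F V = 4)
    {T : V →ₗ[F] V} (h3 : ∀ v, T (T (T v)) = 0) : 2 ≤ finrank F (LinearMap.ker T) := by
  have h1 := LinearMap.finrank_range_add_finrank_ker T
  have h2 := LinearMap.finrank_range_add_finrank_ker (T.domRestrict (LinearMap.range T))
  have h4 : finrank F (LinearMap.range (T.domRestrict (LinearMap.range T))) ≤ finrank F (LinearMap.ker T) := by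
    apply Submodule.finrank_mono
    rintro _ ⟨⟨_, ⟨u, rfl⟩⟩, rfl⟩
    exact h3 u
  have h5 : finrank F (LinearMap.ker (T.domRestrict (LinearMap.range T))) ≤ finrank F (LinearMap.ker T) := by
    have h6 : finrank F ((LinearMap.ker (T.domRestrict (LinearMap.range T))).map (LinearMap.range T).subtype) =
        finrank F (LinearMap.ker (T.domRestrict (LinearMap.range T))) := Submodule.finrank_map_subtype_eq _ _
    rw [← h6]
    apply Submodule.finrank_mono
    rintro _ ⟨y, hy, rfl⟩
    exact hy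
  omega

variable [Fintype F] {q : ℕ}

section Frame

variable {e f : Fin 2 → (Fin 4 → F)}

/-- a hyperbolic frame spans -/
theorem frame_span (hF : Fintype.card F = q ^ 2) (hee : ∀ i j, hermForm 4 F q (e i) (e j) = 0)
    (hef : ∀ i j, hermForm 4 F q (e i) (f j) = if i = j then 1 else 0) (hff : ∀ i j, hermForm 4 F q (f i) (f j) = 0)
    (v : Fin 4 → F) : ∃ a b c d : F, v = a • e 0 + b • e 1 + c • f 0 + d • f 1 := by
  have hfe : ∀ i j, hermForm 4 F q (f i) (e j) = if i = j then 1 else 0 := by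
    intro i j
    rw [herm_swap hF (e j) (f i), hef]
    by_cases h : j = i
    · rw [if_pos h, if_pos h.symm, one_pow]
    · rw [if_neg h, if_neg (Ne.symm h), zero_pow_q hF]
  have hli : LinearIndependent F ![e 0, e 1, f 0, f 1] := by
    rw [Fintype.linearIndependent_iff]
    intro g hg
    rw [Fin.sum_univ_four] at hg
    simp only [cons_val_zero, cons_val_one, cons_val] at hg
    have key : ∀ w, g 0 * hermForm 4 F q (e 0) w + g 1 * hermForm 4 F q (e 1) w + g 2 * hermForm 4 F q (f 0) w +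
        g 3 * hermForm 4 F q (f 1) w = 0 := by
      intro w
      rw [← herm_smul_left, ← herm_smul_left, ← herm_smul_left, ← herm_smul_left, ← herm_add_left, ← herm_add_left,
        ← herm_add_left, hg, herm_zero_left]
    have h0 := key (f 0)
    have h1 := key (f 1)
    have h2 := key (e 0)
    have h3 := key (e 1)
    simp only [hee, hef, hff, hfe] at h0 h1 h2 h3
    norm_num at h0 h1 h2 h3
    intro i
    fin_cases i <;> assumption
  have hcard : Fintype.card (Fin 4) = finrank F (Fin 4 → F) := by simp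
  have hspan := hli.span_eq_top_of_card_eq_finrank hcard
  have hv : v ∈ Submodule.span F (Set.range ![e 0, e 1, f 0, f 1]) := by rw [hspan]; trivial
  rw [Submodule.mem_span_range_iff_exists_fun] at hv
  obtain ⟨c, hc⟩ := hv
  refine ⟨c 0, c 1, c 2, c 3, ?_⟩
  rw [← hc, Fin.sum_univ_four]
  simp only [cons_val_zero, cons_val_one, cons_val]

/-- the orthogonal complement of `⟨e₀, e₁⟩` -/
theorem frame_perp (hF : Fintype.card F = q ^ 2) (hee : ∀ i j, hermForm 4 F q (e i) (e j) = 0)
    (hef : ∀ i j, hermForm 4 F q (e i) (f j) = if i = j then 1 else 0) (hff : ∀ i j, hermForm 4 F q (f i) (f j) = 0)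
    {v : Fin 4 → F} (hv : ∀ i, hermForm 4 F q (e i) v = 0) : ∃ a b : F, v = a • e 0 + b • e 1 := by
  obtain ⟨a, b, c, d, rfl⟩ := frame_span hF hee hef hff v
  have h0 := hv 0
  have h1 := hv 1
  simp only [herm_add_right hF, herm_smul_right, hee, hef] at h0 h1
  norm_num at h0 h1
  refine ⟨a, b, ?_⟩
  rw [h0.1, h1.1, zero_smul, zero_smul, add_zero, add_zero]

end Frame

/-- **the good pair** -/
theorem exists_pair (hF : Fintype.card F = q ^ 2) (h3 : (3 : F) = 0) {T : (Fin 4 → F) →ₗ[F] (Fin 4 → F)}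
    (hiso : ∀ u v, hermForm 4 F q (T u) v + hermForm 4 F q u (T v) + hermForm 4 F q (T u) (T v) = 0)
    (hT3 : ∀ v, T (T (T v)) = 0) (hker : ∀ v, T v = 0 → hermForm 4 F q v v = 0) :
    ∃ (v w : Fin 4 → F) (c : F), c ≠ 0 ∧ T (T v) = 0 ∧ T (T w) = 0 ∧ hermForm 4 F q (T v) (T v) = 0 ∧
      hermForm 4 F q (T v) (T w) = 0 ∧ hermForm 4 F q (T w) (T w) = 0 ∧
      hermForm 4 F q v v = 0 ∧ hermForm 4 F q v w = 0 ∧ hermForm 4 F q w w = 0 ∧
      hermForm 4 F q v (T v) = 0 ∧ hermForm 4 F q w (T w) = 0 ∧ hermForm 4 F q v (T w) = c ∧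
      hermForm 4 F q (T v) w = -c := by
  classical
  -- the kernel is totally isotropic
  have hkk : ∀ u v, T u = 0 → T v = 0 → hermForm 4 F q u v = 0 := by
    intro u v hu hv
    apply eq_zero_of_forall_trace hF
    intro c
    have h1 := hker (c • u + v) (by rw [map_add, map_smul, hu, hv, smul_zero, add_zero])
    rw [herm_add_left, herm_add_right hF, herm_add_right hF, hker v hv, hker (c • u) (by rw [map_smul, hu, smul_zero]),
      zero_add, add_zero, herm_swap hF (c • u) v, herm_smul_left] at h1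
    exact h1
  have hkT : ∀ u v, T u = 0 → hermForm 4 F q u (T v) = 0 := by
    intro u v hu
    have h1 := hiso u v
    rwa [hu, herm_zero_left, herm_zero_left, zero_add, add_zero] at h1
  -- two independent vectors of the kernel
  have hdim := two_le_finrank_ker (by simp) hT3
  have hnt : Nontrivial (LinearMap.ker T) := Module.nontrivial_of_finrank_pos (R := F) (by omega)
  obtain ⟨x, hx⟩ := exists_ne (0 : LinearMap.ker T)
  obtain ⟨y, hy⟩ := exists_linearIndependent_pair_of_one_lt_finrank (R := F) (by omega : 1 < finrank F (LinearMap.ker T)) hx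
  have hli : LinearIndependent F ![(x : Fin 4 → F), (y : Fin 4 → F)] := by
    have h1 := hy.map' (LinearMap.ker T).subtype (Submodule.ker_subtype _)
    have h2 : ((LinearMap.ker T).subtype ∘ ![x, y]) = ![(x : Fin 4 → F), (y : Fin 4 → F)] := by
      funext i; fin_cases i <;> rfl
    rwa [h2] at h1
  set e : Fin 2 → (Fin 4 → F) := ![(x : Fin 4 → F), (y : Fin 4 → F)] with he
  have hTe : ∀ i, T (e i) = 0 := by
    intro i
    fin_cases i
    · exact x.2
    · exact y.2
  have hee : ∀ i j, hermForm 4 F q (e i) (e j) = 0 := fun i j => hkk _ _ (hTe i) (hTe j)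
  obtain ⟨f, hef, hff⟩ := exists_hyperbolic hF hli hee
  -- the image of `T`
  have hTv : ∀ v, ∃ a b : F, T v = a • e 0 + b • e 1 := fun v =>
    frame_perp hF hee hef hff (fun i => hkT _ _ (hTe i))
  have hTT : ∀ v, T (T v) = 0 := by
    intro v
    obtain ⟨a, b, h⟩ := hTv v
    rw [h, map_add, map_smul, map_smul, hTe, hTe, smul_zero, smul_zero, add_zero]
  have hTh : ∀ u v, hermForm 4 F q (T u) (T v) = 0 := fun u v => hkk _ _ (hTT u) (hTT v)
  have hsk : ∀ u v, hermForm 4 F q (T u) v = -hermForm 4 F q u (T v) := by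
    intro u v
    have h1 := hiso u v
    rw [hTh, add_zero] at h1
    exact eq_neg_of_add_eq_zero_left h1
  -- skew hermitian
  have hsw : ∀ u v, hermForm 4 F q v (T u) = -(hermForm 4 F q u (T v)) ^ q := by
    intro u v
    rw [herm_swap hF (T u) v, hsk, neg_pow_q hF]
  have hself : ∀ u, (hermForm 4 F q u (T u)) ^ q = -hermForm 4 F q u (T u) := by
    intro u
    have h1 := hsw u u
    rw [eq_neg_iff_add_eq_zero, add_comm, ← eq_neg_iff_add_eq_zero] at h1
    exact h1
  -- nondegenerate
  have hker2 : ∀ u, (∀ i, hermForm 4 F q (f i) (T u) = 0) → T u = 0 := by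
    intro u hu
    obtain ⟨a, b, h⟩ := hTv u
    have hfe : ∀ i j, hermForm 4 F q (f i) (e j) = if i = j then 1 else 0 := by
      intro i j
      rw [herm_swap hF (e j) (f i), hef]
      by_cases h : j = i
      · rw [if_pos h, if_pos h.symm, one_pow]
      · rw [if_neg h, if_neg (Ne.symm h), zero_pow_q hF]
    have h0 := hu 0
    have h1 := hu 1
    rw [h] at h0 h1
    simp only [herm_add_right hF, herm_smul_right, hfe] at h0 h1
    norm_num at h0 h1
    rw [h, h0.1, h1.1, zero_smul, zero_smul, add_zero]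
  -- the span of `f`
  have hcomb : ∀ a b a' b' : F, hermForm 4 F q (a • f 0 + b • f 1) (a' • f 0 + b' • f 1) = 0 := by
    intro a b a' b'
    simp only [herm_add_left, herm_add_right hF, herm_smul_left, herm_smul_right, hff, mul_zero, add_zero]
  have hcne : ∀ a b : F, (a ≠ 0 ∨ b ≠ 0) → T (a • f 0 + b • f 1) ≠ 0 := by
    intro a b hab h0
    have h1 : ∀ i, hermForm 4 F q (e i) (a • f 0 + b • f 1) = 0 := fun i => hkk _ _ (hTe i) h0
    have h2 := h1 0
    have h3 := h1 1
    simp only [herm_add_right hF, herm_smul_right, hef] at h2 h3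
    norm_num at h2 h3
    rcases hab with h | h
    · exact h h2.1
    · exact h h3.1
  -- the isotropic vector for the form `h(u, T v)`
  obtain ⟨a, b, hab, hg⟩ : ∃ a b : F, (a ≠ 0 ∨ b ≠ 0) ∧
      hermForm 4 F q (a • f 0 + b • f 1) (T (a • f 0 + b • f 1)) = 0 := by
    by_cases h0 : hermForm 4 F q (f 0) (T (f 0)) = 0
    · refine ⟨1, 0, Or.inl one_ne_zero, ?_⟩
      rw [one_smul, zero_smul, add_zero, h0]
    · set A := hermForm 4 F q (f 0) (T (f 0)) with hA
      set m := hermForm 4 F q (f 1) (T (f 0)) * A⁻¹ with hm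
      set u := f 1 - m • f 0 with hu
      have hu0 : hermForm 4 F q u (T (f 0)) = 0 := by
        rw [hu, herm_sub_left, herm_smul_left, ← hA, hm, mul_assoc, inv_mul_cancel₀ h0, mul_one, sub_self]
      have h0u : hermForm 4 F q (f 0) (T u) = 0 := by rw [hsw u (f 0), hu0, zero_pow_q hF, neg_zero]
      set B := hermForm 4 F q u (T u) with hB
      have hAq : A ^ q = -A := hself _
      have hBq : B ^ q = -B := hself _
      obtain ⟨x, hx⟩ := _root_.Cfsg.Agent.LieClassical.HermBasic.exists_norm_eq hF (c := -(B * A⁻¹)) (by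
        rw [neg_pow_q hF, mul_pow, inv_pow, hAq, hBq, inv_neg]; ring)
      refine ⟨x - m, 1, Or.inr one_ne_zero, ?_⟩
      have h5 : (x - m) • f 0 + (1 : F) • f 1 = x • f 0 + u := by
        rw [hu, sub_smul, one_smul]; abel
      rw [h5, map_add, map_smul, herm_add_left, herm_add_right hF, herm_add_right hF, herm_smul_right, herm_smul_right,
        herm_smul_left, herm_smul_left, h0u, hu0, ← hA, ← hB, mul_zero, add_zero, mul_zero, zero_add]
      have h6 : x ^ q * (x * A) = (x * x ^ q) * A := by ring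
      rw [h6, hx, neg_mul, mul_assoc, inv_mul_cancel₀ h0, mul_one, neg_add_cancel]
  set v := a • f 0 + b • f 1 with hv
  have hTv0 : T v ≠ 0 := hcne a b hab
  -- a vector not orthogonal to it
  obtain ⟨i, hi⟩ : ∃ i, hermForm 4 F q v (T (f i)) ≠ 0 := by
    by_contra hcon
    push Not at hcon
    apply hTv0
    apply hker2
    intro i
    rw [hsw v (f i), hcon i, zero_pow_q hF, neg_zero]
  set c := hermForm 4 F q v (T (f i)) with hc
  set G := hermForm 4 F q (f i) (T (f i)) with hG
  have hGq : G ^ q = -G := hself _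
  set w := f i + (G * c⁻¹) • v with hw
  have hTi : ∀ j, hermForm 4 F q v (f j) = 0 := by
    intro j
    rw [hv, herm_add_left, herm_smul_left, herm_smul_left, hff, hff, mul_zero, mul_zero, add_zero]
  have hTi' : ∀ j, hermForm 4 F q (f j) v = 0 := fun j => herm_eq_zero_swap hF (hTi j)
  have hvv : hermForm 4 F q v v = 0 := hcomb _ _ _ _
  have hvTw : hermForm 4 F q v (T w) = c := by
    rw [hw, map_add, map_smul, herm_add_right hF, herm_smul_right, hg, mul_zero, add_zero]
  refine ⟨v, w, c, hi, hTT v, hTT w, hTh _ _, hTh _ _, hTh _ _, hvv, ?_, ?_, hg, ?_, hvTw, by rw [hsk, hvTw]⟩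
  · rw [hw, herm_add_right hF, herm_smul_right, hTi, hvv, mul_zero, add_zero]
  · rw [hw, herm_add_right hF, herm_add_left, herm_add_left, herm_smul_right, herm_smul_right, herm_smul_left,
      herm_smul_left, hff, hTi, hTi', hvv]
    ring
  · rw [hw, map_add, map_smul, herm_add_right hF, herm_add_left, herm_add_left, herm_smul_right, herm_smul_right,
      herm_smul_left, herm_smul_left, hg, ← hc, ← hG, hsw v (f i), ← hc]
    have h5 : (G * c⁻¹) ^ q * -c ^ q = G := by
      rw [mul_pow, inv_pow, hGq]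
      have : c ^ q ≠ 0 := pow_ne_zero _ hi
      field_simp
    have h6 : G * c⁻¹ * c = G := by rw [mul_assoc, inv_mul_cancel₀ hi, mul_one]
    rw [mul_zero, mul_zero, add_zero, h6, h5]
    linear_combination G * h3

end Cfsg.Agent.H454.PsuThree
end

-- part: H372/Rad3U2
section
/-!
# Radical automorphisms of order three of `PSU_n(2)`, `n ≥ 5` (row for helper959)

* `eig_of_quasi` : a radical linear automorphism with a proper invariant non-degenerate subspace `W`, `SU(W)`
  quasisimple, fixes all singular points of `W`;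
* `irow_PSU_two`, `irow_psu52` : `IRow`.
-/

set_option autoImplicit false
set_option linter.unusedSectionVars false

namespace Cfsg.Agent.H372.Rad3U

open Matrix Subgroup Module Cfsg Cfsg.Agent.H459.Rad Cfsg.Agent.H459.Iface Cfsg.Agent.H880.Cl
open Cfsg.Agent.H959.Rad3
open Cfsg.Agent.LieClassical.HermBasic Cfsg.Agent.LieClassical.HermSiegel
open Cfsg.Agent.ClassicalGeometry.PSUAutBasic Cfsg.Agent.ClassicalGeometry.HermOrtho
open Cfsg.Agent.ClassicalGeometry.PSUAutCount (toAut gm gm_mul gm_one gm_mul_inv gm_inv_mul semiConj guConj act_guConj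
  herm_gm gm_inv_mulVec gm_mulVec_inv herm_map gm_inj sc gm_sc_mul toAut_sc_mul eq_of_toAut_eq)

variable {F : Type} [Field F] [Fintype F] {q n l : ℕ}

/-- **Invariant non-degenerate subspaces: all singular points are fixed.** -/
theorem eig_of_quasi (hF : Fintype.card F = q ^ 2) (hn : 3 ≤ n) {A : GU n F q}
    (hRC : RC (toAut A 1 : MulAut (PSU n F q))) {W : Submodule F (Fin n → F)}
    (hW : ∀ u ∈ W, (∀ v ∈ W, hermForm n F q u v = 0) → u = 0) (hAW : ∀ w ∈ W, gm A *ᵥ w ∈ W)
    {m : ℕ} (hm : finrank F W = m) (h2 : 2 ≤ m) (hlt : m < n)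
    (hq : IsQuasisimple (SU m F q)) {u : Fin n → F} (huW : u ∈ W) (hu0 : u ≠ 0) (huu : hermForm n F q u u = 0) :
    ∃ c : F, gm A *ᵥ u = c • u := by
  obtain ⟨r, hr⟩ := CharP.exists F
  have : Fact r.Prime := ⟨(CharP.char_is_prime_or_zero F r).resolve_right (CharP.char_ne_zero_of_finite F r)⟩
  obtain ⟨φ, hφ, hran⟩ := exists_phi hF hW hm
  have hWp : hermPerp q (W : Set (Fin n → F)) ≠ ⊥ := by
    intro h
    have h1 := finrank_hermPerp_of_nondeg hF W hW
    rw [h, finrank_bot] at h1
    omega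
  have hWb : W ≠ ⊥ := by
    intro h
    rw [h, finrank_bot] at hm
    omega
  obtain ⟨v₀, hv₀, hv₀1⟩ := exists_norm_one_vector hF _ (hermPerp_nondeg hF W hW) hWp
  obtain ⟨w₀, hw₀, hw₀1⟩ := exists_norm_one_vector hF W hW hWb
  have hv₀0 : v₀ ≠ 0 := by
    rintro rfl
    rw [herm_zero_left] at hv₀1
    exact zero_ne_one hv₀1
  obtain ⟨μ, hμ0, hμ⟩ := exists_trace_zero_ne hF
  obtain ⟨c₀, hc₀⟩ := _root_.Cfsg.Agent.LieClassical.HermBasic.exists_norm_eq hF (c := -1) (by rw [neg_pow_q hF, one_pow])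
  -- elements of the image act as scalars on `W^⊥`
  have hscal : ∀ g f : SU n F q, f ∈ fixP q W → pr n F q f = pr n F q g →
      ∃ c : F, ∀ v ∈ hermPerp q (W : Set (Fin n → F)), act g v = c • v := by
    intro g f hf h
    obtain ⟨z, hz, rfl⟩ := exists_center_mul h
    obtain ⟨c, -, -, hc⟩ := exists_scalar_of_mem_center hF hn hz
    exact ⟨c, fun v hv => by rw [act_mul, hc, act_smul, hf v hv]⟩
  have hinj : Function.Injective ((pr n F q).comp φ) := by
    rw [injective_iff_map_eq_one]
    intro a ha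
    have h1 : φ a ∈ fixP q W := hran ▸ ⟨a, rfl⟩
    have h3 : pr n F q (φ a) = 1 := ha
    rw [pr_eq_one_iff] at h3
    obtain ⟨c, -, -, hc⟩ := exists_scalar_of_mem_center hF hn h3
    have h4 := h1 v₀ hv₀
    rw [hc] at h4
    have h5 : (c - 1) • v₀ = 0 := by rw [sub_smul, one_smul, h4, sub_self]
    have h6 : c = 1 := by
      rcases smul_eq_zero.mp h5 with h | h
      · exact sub_eq_zero.mp h
      · exact absurd h hv₀0
    apply hφ
    rw [map_one]
    apply ext_act
    intro v
    rw [hc, h6, one_smul, act_one]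
  set M : Subgroup (PSU n F q) := ((pr n F q).comp φ).range with hM
  have hMmem : ∀ x, x ∈ M ↔ ∃ f ∈ fixP q W, pr n F q f = x := by
    intro x
    constructor
    · rintro ⟨a, rfl⟩
      exact ⟨φ a, hran ▸ ⟨a, rfl⟩, rfl⟩
    · rintro ⟨f, hf, rfl⟩
      rw [← hran] at hf
      obtain ⟨a, rfl⟩ := hf
      exact ⟨a, rfl⟩
  have hMq : IsQuasisimple M :=
    SignalizersComponents.Components.isQuasisimple_of_mulEquiv (MonoidHom.ofInjective hinj) hq
  have hMtop : M ≠ ⊤ := by
    intro htop
    -- the transvection with centre `v₀ + c₀ w₀`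
    have hvw : hermForm n F q v₀ w₀ = 0 := hv₀ w₀ hw₀
    have hwv : hermForm n F q w₀ v₀ = 0 := herm_eq_zero_swap hF hvw
    have hu : hermForm n F q (v₀ + c₀ • w₀) (v₀ + c₀ • w₀) = 0 := by
      rw [herm_add_left, herm_add_right hF, herm_add_right hF, herm_smul_left, herm_smul_right, herm_smul_left,
        herm_smul_right, hv₀1, hw₀1, hvw, hwv]
      linear_combination hc₀
    have hvu : hermForm n F q v₀ (v₀ + c₀ • w₀) = 1 := by
      rw [herm_add_right hF, herm_smul_right, hv₀1, hvw, mul_zero, add_zero]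
    have hmem : pr n F q (transv hF _ hu μ hμ) ∈ M := by rw [htop]; exact mem_top _
    obtain ⟨f, hf, hfe⟩ := (hMmem _).1 hmem
    obtain ⟨c, hc⟩ := hscal _ f hf hfe
    have h1 := hc v₀ hv₀
    rw [act_transv, hvu, mul_one] at h1
    -- pair with `w₀`
    have h3 := congrArg (fun v => hermForm n F q v w₀) h1
    simp only [herm_add_left, herm_smul_left, hvw, hw₀1] at h3
    have hc₀0 : c₀ ≠ 0 := by
      rintro rfl
      rw [zero_mul] at hc₀
      exact one_ne_zero (neg_eq_zero.mp hc₀.symm)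
    have h4 : μ * c₀ = 0 := by linear_combination h3
    exact (mul_ne_zero hμ0 hc₀0) h4
  have hMinv : ∀ x ∈ M, toAut A 1 x ∈ M := by
    intro x hx
    rw [hMmem] at hx ⊢
    obtain ⟨f, hf, rfl⟩ := hx
    refine ⟨guConj A f, fun v hv => ?_, rfl⟩
    rw [act_guConj, hf, gm_mulVec_inv]
    intro w hw
    rw [← herm_gm A, gm_mulVec_inv]
    exact hv _ (hAW w hw)
  have hfix : ∀ f ∈ fixP q W, pr n F q (guConj A f) = pr n F q f := by
    intro f hf
    exact hRC.eq_of_quasisimple hMtop hMinv hMq ((hMmem _).2 ⟨f, hf, rfl⟩)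
  have ht : transv hF u huu μ hμ ∈ fixP q W := by
    intro v hv
    rw [act_transv, hv u huW, mul_zero, zero_smul, add_zero]
  obtain ⟨k, hk⟩ := siegel_pow_prime_pow hF r (isSiegel_zero huu hμ)
  have hk' : transv hF u huu μ hμ ^ r ^ k = 1 := hk
  have hcomm : guConj A (transv hF u huu μ hμ) = transv hF u huu μ hμ :=
    eq_of_pr_eq hF hn (k := k) (l := k) (by rw [← map_pow, hk', map_one]) hk' (hfix _ ht)
  obtain ⟨v, hv⟩ := exists_herm_ne_zero hF hu0
  have hv' : hermForm n F q v u ≠ 0 := fun h1 => hv (herm_eq_zero_swap hF h1)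
  have h5 : act (guConj A (transv hF u huu μ hμ)) (gm A *ᵥ v) = act (transv hF u huu μ hμ) (gm A *ᵥ v) := by
    rw [hcomm]
  rw [act_guConj, gm_inv_mulVec, act_transv, act_transv, mulVec_add, mulVec_smul] at h5
  have h6 := add_left_cancel h5
  have h7 : gm A *ᵥ u = ((μ * hermForm n F q v u)⁻¹ * (μ * hermForm n F q (gm A *ᵥ v) u)) • u := by
    rw [← smul_smul, ← h6, inv_smul_smul₀ (mul_ne_zero hμ0 hv')]
  exact ⟨_, h7⟩

/-- **A radical linear automorphism of order three is inner diagonal trivial if `3 ∣ q + 1`, `n ≥ 5`.** -/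
theorem false_of_three (hF : Fintype.card F = q ^ 2) (hn : 5 ≤ n) (h3 : 3 ∣ q + 1) {A : GU n F q}
    (hA : orderOf (toAut A 1 : MulAut (PSU n F q)) = 3) (hRC : RC (toAut A 1 : MulAut (PSU n F q))) : False := by
  have : Fact (Nat.Prime 3) := ⟨Nat.prime_three⟩
  have hpow : (toAut A 1 : MulAut (PSU n F q)) ^ 3 = 1 := by rw [← hA, pow_orderOf_eq_one]
  obtain ⟨-, c, hc1, hc⟩ := CpAutU.Desc.exists_scalar hF (by omega : 3 ≤ n) hpow
  have hgm : gm A ^ 3 = c • (1 : Matrix (Fin n) (Fin n) F) := by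
    rw [← gm_pow]
    have h1 : ∀ k : ℕ, ∀ v, (CpAut.Psl.perm (A : GL (Fin n) F) 1 ^ k) v = gm (A ^ k) *ᵥ v := by
      intro k
      induction k with
      | zero => intro v; rw [pow_zero, pow_zero, gm_one, one_mulVec]; rfl
      | succ k ih =>
        intro v
        rw [pow_succ, Equiv.Perm.mul_apply, ih, pow_succ, gm_mul, ← mulVec_mulVec]
        rfl
    apply Matrix.ext_of_mulVec_single
    intro i
    rw [← h1, hc, Matrix.smul_mulVec, one_mulVec]
  have hAp : gm (A ^ 3) = c • (1 : Matrix (Fin n) (Fin n) F) := by rw [gm_pow, hgm]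
  have hcu : c ^ (q + 1) = 1 := by rw [pow_succ', hc1]
  have hc0 : c ≠ 0 := by
    rintro rfl
    rw [zero_mul] at hc1
    exact zero_ne_one hc1
  let c' : rootsOfUnity (q + 1) F := ⟨Units.mk0 c hc0, by
    rw [mem_rootsOfUnity]
    apply Units.ext
    rw [Units.val_pow_eq_pow_val, Units.val_mk0, hcu, Units.val_one]⟩
  have hAc : A ^ 3 = dlt n F q (fun _ => c') * rh n F q 1 := by
    rw [map_one, mul_one]
    apply ext_gm
    intro v
    rw [hAp, smul_mulVec, one_mulVec]
    funext i
    rw [dlt_mulVec, Pi.smul_apply, smul_eq_mul]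
    rfl
  obtain ⟨g, a, π, hg⟩ := exists_conj_mem (p := 3) (MonG n F q) (not_dvd_index hF (by omega) h3) (x := A) (by
    intro g
    refine ⟨fun _ => c', 1, ?_⟩
    rw [← hAc]
    apply gm_inj
    rw [gm_mul, gm_mul, hAp, Matrix.mul_smul, Matrix.smul_mul, Matrix.mul_one, gm_inv_mul])
  set B := g⁻¹ * A * g with hB
  have hBm : GMono B π := by
    intro i
    rw [hg]
    exact ⟨_, mono_mulVec a π i⟩
  have hBRC : RC (toAut B 1 : MulAut (PSU n F q)) := RC.of_conj hRC g
  have hπ : π = 1 := perm_eq_one_of_rc hF hn hBm hBRC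
  subst hπ
  -- `B` is diagonal
  choose b hb using hBm
  have hb' : ∀ i, gm B *ᵥ Pi.single i 1 = b i • (Pi.single i 1 : Fin n → F) := hb
  obtain ⟨m, hm⟩ := _root_.Cfsg.Agent.LieClassical.HermBasic.exists_norm_eq hF (c := -1) (by rw [neg_pow_q hF, one_pow])
  have hm0 : m ≠ 0 := by
    rintro rfl
    rw [zero_mul] at hm
    exact one_ne_zero (neg_eq_zero.mp hm.symm)
  have hall : ∀ i j : Fin n, i ≠ j → b i = b j := by
    intro i j hij
    obtain ⟨k, hk1, hk2⟩ : ∃ k : Fin n, k ≠ i ∧ k ≠ j := by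
      by_contra hc
      push Not at hc
      have h1 : (Finset.univ : Finset (Fin n)) ⊆ {i, j} := by
        intro l _
        by_cases h1 : l = i
        · simp [h1]
        simp [hc l h1]
      have h2 := (Finset.card_le_card h1).trans Finset.card_le_two
      rw [Finset.card_univ, Fintype.card_fin] at h2
      omega
    set K : Submodule F (Fin n → F) := Submodule.span F {Pi.single k 1} with hK
    have hkk : hermForm n F q (Pi.single k 1) (Pi.single k 1) = 1 := by rw [single_herm hF, if_pos rfl]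
    have hKn : ∀ u ∈ K, (∀ v ∈ K, hermForm n F q u v = 0) → u = 0 := by
      intro u hu huv
      obtain ⟨s, rfl⟩ := Submodule.mem_span_singleton.mp hu
      have h1 := huv _ (Submodule.mem_span_singleton_self _)
      rw [herm_smul_left, hkk, mul_one] at h1
      rw [h1, zero_smul]
    have hKf : finrank F K = 1 := finrank_span_singleton (single_ne k)
    have hKA : ∀ u ∈ K, gm B *ᵥ u ∈ K := by
      intro u hu
      obtain ⟨s, rfl⟩ := Submodule.mem_span_singleton.mp hu
      rw [mulVec_smul, hb', smul_smul]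
      exact Submodule.smul_mem _ _ (Submodule.mem_span_singleton_self _)
    have hdim := finrank_hermPerp_of_nondeg hF K hKn
    rw [hKf] at hdim
    have hWf : finrank F (hermPerp q (K : Set (Fin n → F))) = n - 1 := by omega
    have hmem : ∀ s, s ≠ k → (Pi.single s 1 : Fin n → F) ∈ hermPerp q (K : Set (Fin n → F)) := by
      intro s hs u hu
      obtain ⟨d, rfl⟩ := Submodule.mem_span_singleton.mp hu
      rw [herm_smul_right, single_herm hF, if_neg hs, mul_zero]
    have hqs : IsQuasisimple (SU (n - 1) F q) := GenPsu.quasi hF (by omega) (by omega)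
    obtain ⟨d, hd⟩ := eig_of_quasi (m := n - 1) hF (by omega) hBRC (hermPerp_nondeg hF K hKn) (perp_inv hKA) hWf
      (by omega) (by omega) hqs
      (Submodule.add_mem _ (hmem i (Ne.symm hk1)) (Submodule.smul_mem _ m (hmem j (Ne.symm hk2)))) (pair_ne hij m)
      (iso_pair hF hij hm)
    rw [mulVec_add, mulVec_smul, hb', hb'] at hd
    have hi := congrFun hd i
    have hj := congrFun hd j
    simp only [Pi.add_apply, Pi.smul_apply, Pi.single_eq_same, Pi.single_eq_of_ne hij, Pi.single_eq_of_ne hij.symm,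
      smul_eq_mul, mul_one, mul_zero, add_zero, zero_add] at hi hj
    rw [hi]
    have h4 : m * (b j - d) = 0 := by linear_combination hj
    rcases mul_eq_zero.1 h4 with h5 | h5
    · exact absurd h5 hm0
    · exact (sub_eq_zero.1 h5).symm
  -- `B` is scalar
  let i0 : Fin n := ⟨0, by omega⟩
  have hBs : gm B = b i0 • gm (1 : GU n F q) := by
    apply Matrix.ext_of_mulVec_single
    intro i
    have h1 : b i = b i0 := by
      by_cases h : i = i0
      · rw [h]
      · exact hall i i0 h
    rw [hb', h1, gm_one, smul_mulVec, one_mulVec]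
  have hbn : b i0 * b i0 ^ q = 1 := by
    have h1 := herm_gm B (Pi.single i0 1) (Pi.single i0 1)
    rw [hb', herm_smul_left, herm_smul_right, single_herm hF, if_pos rfl, mul_one] at h1
    exact h1
  have hB1 : B = sc n ⟨b i0, hbn⟩ * 1 := by
    apply gm_inj
    rw [gm_sc_mul, hBs]
  have hB2 : (toAut B 1 : MulAut (PSU n F q)) = 1 := by
    rw [hB1, toAut_sc_mul, CpAutU.Desc.toAut_one]
  have hA1 : (toAut A 1 : MulAut (PSU n F q)) = 1 := by
    have h1 : A = g * B * g⁻¹ := by rw [hB]; group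
    rw [h1, ← toAut_mul_one, ← toAut_mul_one, hB2, mul_one, toAut_mul_one, mul_inv_cancel, CpAutU.Desc.toAut_one]
  rw [hA1, orderOf_one] at hA
  omega

/-- **`PSU_n(2)`, `n ≥ 5`.** -/
theorem irow_PSU_two (hF : Fintype.card F = 2 ^ 2) (hn : 5 ≤ n) : IRow (PSU n F 2) := by
  intro x hx hRC _
  obtain ⟨A, ρ, rfl⟩ := ClassicalGeometry.PSUAutMain.exists_toAut hF (by omega : 3 ≤ n) (by omega) x
  have hpow : toAut A ρ ^ 3 = 1 := by rw [← hx, pow_orderOf_eq_one]
  by_cases hρ : ρ = 1
  · subst hρ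
    exact false_of_three hF hn (by norm_num) hx hRC
  · obtain ⟨hord, -⟩ := CpAutU.Desc.exists_conj hF (by omega : 3 ≤ n) Nat.prime_three (by norm_num) hpow hρ
    obtain ⟨s, hs2, -, hq⟩ := CpAutU.Fld.exists_s' hF hord (by decide)
    have h1 : 2 ^ 3 ≤ s ^ 3 := Nat.pow_le_pow_left hs2 3
    omega

/-- **The row `PSU_n(2)`, `n ≥ 5`, up to isomorphism.** -/
theorem irow_psu52 {K : Type*} [Group K] [Finite K] [IsSimpleGroup K] {F : Type} [Field F] [Fintype F] {n : ℕ}
    (hn : 5 ≤ n) (hF : Fintype.card F = 4) (e : Nonempty (K ≃* Cfsg.PSU n F 2)) : Cfsg.Agent.H959.Rad3.IRow K := by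
  obtain ⟨e⟩ := e
  exact (irow_PSU_two hF hn).congr e

end Cfsg.Agent.H372.Rad3U
end

-- part: H454/PsuThree
section
/-!
# Radical elements of order three of `PSU_4(3)` (helper454)

`irow_psu43` : the row `PSU(4, 3)` of S3854, S3832, S4336.
-/

set_option autoImplicit false
set_option linter.unusedSectionVars false

namespace Cfsg.Agent.H454.PsuThree

open Matrix Module Subgroup Cfsg Cfsg.Agent.H459.Rad Cfsg.Agent.H459.Iface Cfsg.Agent.H880.Cl
open Cfsg.Agent.H959.Rad3
open Cfsg.Agent.LieClassical.HermBasic Cfsg.Agent.LieClassical.HermSiegel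
open Cfsg.Agent.ClassicalGeometry.PSUAutBasic Cfsg.Agent.ClassicalGeometry.HermOrtho
open Cfsg.Agent.ClassicalGeometry.PSUAutCount (toAut gm gm_mul gm_one gm_mul_inv gm_inv_mul semiConj guConj act_guConj
  herm_gm gm_inv_mulVec gm_mulVec_inv herm_map gm_inj sc gm_sc_mul toAut_sc_mul eq_of_toAut_eq)

/-! ### Automorphisms of order three are inner -/

section Inner

variable {F : Type} [Field F] [Fintype F]

theorem charP_three (hF : Fintype.card F = 3 ^ 2) : CharP F 3 := by
  obtain ⟨p, hp⟩ := CharP.exists F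
  obtain ⟨n, hprime, hcard⟩ := FiniteField.card F p
  rw [hF] at hcard
  have h1 : p ∣ 3 ^ 2 := by rw [hcard]; exact dvd_pow_self p n.ne_zero
  have h2 := (Nat.prime_dvd_prime_iff_eq hprime Nat.prime_three).1 (hprime.dvd_of_dvd_pow h1)
  rwa [h2] at hp

theorem conj_injective (hF : Fintype.card F = 3 ^ 2) :
    Function.Injective (MulAut.conj : PSU 4 F 3 →* MulAut (PSU 4 F 3)) := by
  have hs : IsSimpleGroup (PSU 4 F 3) := Cfsg.Agent.S0283.result hF 4 (by norm_num) (by norm_num)
  have hZ : center (PSU 4 F 3) = ⊥ := by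
    rcases hs.eq_bot_or_eq_top_of_normal (center (PSU 4 F 3)) inferInstance with h | h
    · exact h
    · exfalso
      have hq : IsQuasisimple (SU 4 F 3) := GenPsu.quasi hF (by norm_num) (by norm_num)
      have h1 := hq.1
      have h2 : commutator (SU 4 F 3) = ⊤ := hq.1.1
      have h3 : commutator (PSU 4 F 3) = ⊤ := by
        have h4 := map_commutator (⊤ : Subgroup (SU 4 F 3)) ⊤ (pr 4 F 3)
        rw [← commutator_def, h2, Subgroup.map_top_of_surjective _ pr_surjective] at h4
        exact h4.symm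
      have h5 : _root_.commutator (PSU 4 F 3) = ⊥ := by
        rw [commutator_def, eq_bot_iff, commutator_le]
        intro a _ b _
        have : a ∈ center (PSU 4 F 3) := by rw [h]; trivial
        rw [mem_bot, commutatorElement_eq_one_iff_mul_comm]
        exact (mem_center_iff.1 this b).symm
      rw [h3] at h5
      exact absurd h5 (top_ne_bot)
  rw [← MonoidHom.ker_eq_bot_iff, eq_bot_iff, ← hZ]
  intro z hz
  rw [mem_center_iff]
  intro l
  have h1 : MulAut.conj z l = l := by rw [MonoidHom.mem_ker.1 hz]; rfl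
  rw [MulAut.conj_apply] at h1
  calc l * z = (z * l * z⁻¹) * z := by rw [h1]
    _ = z * l := by group

theorem inner_of_cube (hF : Fintype.card F = 3 ^ 2) {x : MulAut (PSU 4 F 3)} (hx : x ^ 3 = 1) :
    ∃ a : PSU 4 F 3, x = MulAut.conj a := by
  have : Fact (Nat.Prime 3) := ⟨Nat.prime_three⟩
  have hcard := Cfsg.Agent.S0815.result 3 1 le_rfl (pow_one 3).symm hF 4 (by norm_num) (by norm_num)
  have hinj := conj_injective hF
  set R := (MulAut.conj : PSU 4 F 3 →* MulAut (PSU 4 F 3)).range with hR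
  have hcR : Nat.card R = Nat.card (PSU 4 F 3) := (Nat.card_congr (MonoidHom.ofInjective hinj).toEquiv).symm
  have hidx : R.index = 8 := by
    have h1 := R.card_mul_index
    rw [hcR, hcard] at h1
    have h2 : 0 < Nat.card (PSU 4 F 3) := Nat.card_pos
    have h3 : Nat.card (PSU 4 F 3) * R.index = Nat.card (PSU 4 F 3) * 8 := by
      rw [h1]
      norm_num
      ring
    exact Nat.eq_of_mul_eq_mul_left h2 h3
  have hRn : R.Normal := by
    refine ⟨?_⟩
    rintro _ ⟨a, rfl⟩ α
    refine ⟨α a, ?_⟩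
    ext y
    simp only [MulAut.conj_apply, _root_.MulAut.mul_apply, _root_.MulAut.inv_apply, _root_.map_mul, _root_.MulEquiv.apply_symm_apply, _root_.map_inv]
  have h9 : x ^ 8 ∈ R := by
    have := R.pow_index_mem x
    rwa [hidx] at this
  have h10 : x = (x ^ 8)⁻¹ := by
    rw [eq_inv_iff_mul_eq_one, ← pow_succ', show 8 + 1 = 3 * 3 by norm_num, pow_mul, hx, one_pow]
  obtain ⟨a, ha⟩ := R.inv_mem h9
  exact ⟨a, by rw [ha, ← h10]⟩

end Inner

/-! ### A fixed nonisotropic vector -/

section CaseA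

variable {F : Type} [Field F] [Fintype F]

theorem eq_one_of_fix (hF : Fintype.card F = 3 ^ 2) {a : SU 4 F 3} {l : ℕ} (ha : a ^ 3 ^ l = 1)
    (hRC : RC (MulAut.conj (pr 4 F 3 a))) {v : Fin 4 → F} (hv : act a v = v) (hvv : hermForm 4 F 3 v v ≠ 0) :
    a = 1 := by
  have hch := charP_three hF
  have : Fact (Nat.Prime 3) := ⟨Nat.prime_three⟩
  have h2 : (2 : F) ≠ 0 := by
    intro h
    have h3 : (3 : F) = 0 := by exact_mod_cast (CharP.cast_eq_zero F 3)
    have : (1 : F) = 0 := by linear_combination h3 - h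
    exact one_ne_zero this
  set A : GU 4 F 3 := ⟨Matrix.SpecialLinearGroup.toGL a.1, a.2⟩ with hA
  have hgA : gm A = mat a := rfl
  have hRC' : RC (toAut A 1 : MulAut (PSU 4 F 3)) := by
    have h1 : (toAut A 1 : MulAut (PSU 4 F 3)) = MulAut.conj (pr 4 F 3 a) :=
      Cfsg.Agent.Schreier.PSU.f₁_eq_conj A a hgA
    rw [h1]
    exact hRC
  have hv0 : v ≠ 0 := by
    rintro rfl
    exact hvv (herm_zero_left _)
  set K : Submodule F (Fin 4 → F) := Submodule.span F {v} with hK
  have hKn : ∀ u ∈ K, (∀ w ∈ K, hermForm 4 F 3 u w = 0) → u = 0 := by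
    intro u hu huv
    obtain ⟨s, rfl⟩ := Submodule.mem_span_singleton.mp hu
    have h1 := huv _ (Submodule.mem_span_singleton_self _)
    rw [herm_smul_left] at h1
    rw [(mul_eq_zero.1 h1).resolve_right hvv, zero_smul]
  have hKf : finrank F K = 1 := finrank_span_singleton hv0
  have hKA : ∀ u ∈ K, gm A *ᵥ u ∈ K := by
    intro u hu
    obtain ⟨s, rfl⟩ := Submodule.mem_span_singleton.mp hu
    have h1 : gm A *ᵥ v = v := hv
    rw [mulVec_smul, h1]
    exact hu
  have hdim := finrank_hermPerp_of_nondeg hF K hKn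
  rw [hKf] at hdim
  have hWf : finrank F (hermPerp 3 (K : Set (Fin 4 → F))) = 3 := by omega
  have hWn := hermPerp_nondeg hF K hKn
  have hqs : IsQuasisimple (SU 3 F 3) := GenPsu.quasi hF le_rfl (by norm_num)
  -- singular vectors are fixed
  have hfix : ∀ u ∈ hermPerp 3 (K : Set (Fin 4 → F)), hermForm 4 F 3 u u = 0 → act a u = u := by
    intro u hu huu
    by_cases hu0 : u = 0
    · rw [hu0, act_zero]
    obtain ⟨c, hc⟩ := Cfsg.Agent.H372.Rad3U.eig_of_quasi (m := 3) hF (by norm_num) hRC' hWn (perp_inv hKA) hWf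
      (by norm_num) (by norm_num) hqs hu hu0 huu
    have hc' : act a u = c • u := hc
    have hpow : ∀ k : ℕ, act (a ^ k) u = c ^ k • u := by
      intro k
      induction k with
      | zero => rw [pow_zero, pow_zero, act_one, one_smul]
      | succ k ih => rw [pow_succ, act_mul, hc', act_smul, ih, smul_smul, ← pow_succ']
    have h1 := hpow (3 ^ l)
    rw [ha, act_one] at h1
    have h3 : (c ^ 3 ^ l - 1) • u = 0 := by rw [sub_smul, one_smul, ← h1, sub_self]
    have h4 : c ^ 3 ^ l = 1 := sub_eq_zero.1 ((smul_eq_zero.1 h3).resolve_right hu0)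
    have h5 : (c - 1) ^ 3 ^ l = 0 := by rw [sub_pow_char_pow, h4, one_pow, sub_self]
    have h6 : c = 1 := sub_eq_zero.1 (pow_eq_zero_iff (pow_ne_zero l (by norm_num)) |>.1 h5)
    rw [hc', h6, one_smul]
  obtain ⟨b, hbW, hb⟩ := exists_orthonormal hF _ hWn hWf
  obtain ⟨m, hm⟩ := _root_.Cfsg.Agent.LieClassical.HermBasic.exists_norm_eq hF (c := -1) (by rw [neg_pow_q hF, one_pow])
  have hbfix : ∀ i, act a (b i) = b i := by
    intro i
    obtain ⟨j, hj⟩ : ∃ j : Fin 3, j ≠ i := exists_ne i
    have key : ∀ m : F, m * m ^ 3 = -1 → act a (b i + m • b j) = b i + m • b j := by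
      intro m hm
      apply hfix _ (Submodule.add_mem _ (hbW i) (Submodule.smul_mem _ m (hbW j)))
      rw [herm_add_left, herm_add_right hF, herm_add_right hF, herm_smul_left, herm_smul_right, herm_smul_left,
        herm_smul_right, hb, hb, hb, hb, if_pos rfl, if_pos rfl, if_neg hj, if_neg hj.symm]
      linear_combination hm
    have h1 := key m hm
    have h3 := key (-m) (by rw [neg_pow_q hF]; linear_combination hm)
    rw [act_add, act_smul] at h1 h3
    have h4 : (2 : F) • (act a (b i) - b i) = 0 := by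
      have h5 : (act a (b i) + m • act a (b j)) + (act a (b i) + -m • act a (b j)) =
          (b i + m • b j) + (b i + -m • b j) := by rw [h1, h3]
      rw [smul_sub, two_smul, two_smul, sub_eq_zero]
      calc act a (b i) + act a (b i) = (act a (b i) + m • act a (b j)) + (act a (b i) + -m • act a (b j)) := by
            rw [neg_smul]; abel
        _ = (b i + m • b j) + (b i + -m • b j) := h5
        _ = b i + b i := by rw [neg_smul]; abel
    exact sub_eq_zero.1 ((smul_eq_zero.1 h4).resolve_left h2)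
  apply ext_act
  intro x
  obtain ⟨w, hw, u, hu, rfl⟩ := exists_add_perp hF K hKn x
  obtain ⟨s, rfl⟩ := Submodule.mem_span_singleton.mp hw
  rw [act_one, act_add, act_smul, hv]
  congr 1
  rw [eq_sum_of_orthonormal _ (by simpa using hWf) hbW hb hu, act_sum]
  exact Finset.sum_congr rfl fun i _ => by rw [act_smul, hbfix]

end CaseA

/-! ### The subgroup `SL_2(9)` -/

section Emb

variable {F : Type} [Field F] [Fintype F]

/-- `diag (g, g^σ)` -/
def dM (σ : F →+* F) (g : Matrix (Fin 2) (Fin 2) F) : Matrix (Fin 4) (Fin 4) F :=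
  !![g 0 0, g 0 1, 0, 0; g 1 0, g 1 1, 0, 0; 0, 0, σ (g 0 0), σ (g 0 1); 0, 0, σ (g 1 0), σ (g 1 1)]

theorem dM_one (σ : F →+* F) : dM σ 1 = 1 := by
  ext i j
  (revert i j; simp only [dM, _root_.Fin.forall_fin_succ, _root_.Matrix.one_apply_eq, Fin.isValue, _root_.ne_eq, _root_.zero_ne_one, _root_.not_false_eq_true, _root_.Matrix.one_apply_ne, _root_.one_ne_zero, _root_.map_one, _root_.map_zero, _root_.Matrix.of_apply, _root_.Matrix.cons_val', _root_.Matrix.cons_val_fin_one, _root_.Matrix.cons_val_zero, _root_.Matrix.cons_val_succ, _root_.IsEmpty.forall_iff, _root_.and_true, Nat.reduceAdd, _root_.Fin.succ_zero_eq_one, _root_.Fin.succ_one_eq_two, Fin.reduceEq, Fin.reduceSucc, _root_.and_self, _root_.Fin.succ_ne_zero, _root_.true_and])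

theorem dM_mul (σ : F →+* F) (g h : Matrix (Fin 2) (Fin 2) F) : dM σ (g * h) = dM σ g * dM σ h := by
  ext i j
  (revert i j; simp only [dM, Matrix.mul_apply, Fin.sum_univ_two, Fin.sum_univ_four, _root_.Fin.forall_fin_succ, Fin.isValue, _root_.map_add, _root_.map_mul, _root_.Matrix.of_apply, _root_.Matrix.cons_val', _root_.Matrix.cons_val_fin_one, _root_.Matrix.cons_val_zero, _root_.Matrix.cons_val_one, _root_.Matrix.cons_val, _root_.MulZeroClass.mul_zero, _root_.add_zero, _root_.Matrix.cons_val_succ, _root_.zero_add, _root_.forall_const, _root_.MulZeroClass.zero_mul, _root_.and_self, _root_.implies_true])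

theorem det_dM (σ : F →+* F) (g : Matrix (Fin 2) (Fin 2) F) : (dM σ g).det = g.det * σ g.det := by
  rw [Matrix.det_succ_row_zero]
  simp only [dM, Fin.sum_univ_succ, Matrix.det_fin_three, Matrix.det_fin_two, Fin.succAbove, Matrix.submatrix, _root_.Nat.succ_eq_add_one, _root_.Nat.reduceAdd, _root_.Fin.isValue, _root_.Matrix.of_apply, _root_.Matrix.cons_val', _root_.Matrix.cons_val_fin_one, _root_.Matrix.cons_val_zero, _root_.Matrix.cons_val_succ, _root_.Fin.castSucc_zero, _root_.Fin.succ_zero_eq_one, _root_.Fin.castSucc_one, _root_.Fin.succ_one_eq_two, _root_.Matrix.cons_val_one, _root_.Fin.reduceCastSucc, _root_.Fin.reduceSucc, _root_.Matrix.cons_val, _root_.Fin.coe_ofNat_eq_mod, _root_.Nat.zero_mod, _root_.pow_zero, _root_.one_mul, _root_.lt_self_iff_false, ↓ _root_.reduceIte, _root_.not_lt_zero, _root_.MulZeroClass.mul_zero, _root_.MulZeroClass.zero_mul, _root_.sub_zero, _root_.add_zero, _root_.Fin.val_succ, _root_.Fin.succ_pos, _root_.zero_add, _root_.pow_one, _root_.neg_mul,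 _root_.Fin.lt_one_iff, _root_.Fin.reduceEq, _root_.even_two, _root_.Even.neg_pow, _root_.one_pow, _root_.Fin.reduceLT, _root_.sub_self, _root_.Finset.univ_unique, _root_.Fin.default_eq_zero, _root_.Fin.val_eq_zero, _root_.Finset.sum_const_zero, _root_.map_sub, _root_.map_mul]
  ring

theorem dM_mulVec (σ : F →+* F) (g : Matrix (Fin 2) (Fin 2) F) (x : Fin 4 → F) :
    dM σ g *ᵥ x = ![g 0 0 * x 0 + g 0 1 * x 1, g 1 0 * x 0 + g 1 1 * x 1,
      σ (g 0 0) * x 2 + σ (g 0 1) * x 3, σ (g 1 0) * x 2 + σ (g 1 1) * x 3] := by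
  funext i
  (revert i; simp only [dM, Matrix.mulVec, dotProduct, Fin.sum_univ_four, _root_.Fin.forall_fin_succ, Fin.isValue, _root_.Matrix.of_apply, _root_.Matrix.cons_val', _root_.Matrix.cons_val_fin_one, _root_.Matrix.cons_val_zero, _root_.Matrix.cons_val_one, _root_.Matrix.cons_val, _root_.Nat.succ_eq_add_one, Nat.reduceAdd, _root_.MulZeroClass.zero_mul, _root_.add_zero, _root_.Matrix.cons_val_succ, _root_.zero_add, _root_.implies_true, _root_.and_self])

/-- the Gram form -/
def gf (c : F) (x y : Fin 4 → F) : F :=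
  c * (x 0 * y 3 ^ 3 - x 1 * y 2 ^ 3) + c ^ 3 * (x 3 * y 0 ^ 3 - x 2 * y 1 ^ 3)

theorem gf_dM (hF : Fintype.card F = 3 ^ 2) (c : F) {σ : F →+* F} (hσ : ∀ x, σ x = x ^ 3) {g : Matrix (Fin 2) (Fin 2) F}
    (hg : g.det = 1) (x y : Fin 4 → F) : gf c (dM σ g *ᵥ x) (dM σ g *ᵥ y) = gf c x y := by
  rw [dM_mulVec, dM_mulVec]
  unfold gf
  simp only [cons_val_zero, cons_val_one, cons_val, hσ]
  rw [Matrix.det_fin_two] at hg
  have hg3 : (g 0 0) ^ 3 * (g 1 1) ^ 3 - (g 0 1) ^ 3 * (g 1 0) ^ 3 = 1 := by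
    rw [← mul_pow, ← mul_pow, ← sub_pow_q hF, hg, one_pow]
  simp only [add_pow_q hF, mul_pow, pow_q_pow_q hF]
  linear_combination c * (x 0 * y 3 ^ 3 - x 1 * y 2 ^ 3) * hg + c ^ 3 * (x 3 * y 0 ^ 3 - x 2 * y 1 ^ 3) * hg3

theorem gf_nondeg {c : F} (hc : c ≠ 0) {x : Fin 4 → F} (hx : ∀ y, gf c x y = 0) : x = 0 := by
  have h0 := hx ![1, 0, 0, 0]
  have h1 := hx ![0, 1, 0, 0]
  have h2 := hx ![0, 0, 1, 0]
  have h3 := hx ![0, 0, 0, 1]
  unfold gf at h0 h1 h2 h3
  simp [hc] at h0 h1 h2 h3
  funext i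
  fin_cases i <;> assumption

/-- the embedding of `SL_2(F)` -/
def emb (P Q : Matrix (Fin 4) (Fin 4) F) (hPQ : P * Q = 1) (hQP : Q * P = 1) (c : F) (hF : Fintype.card F = 3 ^ 2)
    {σ : F →+* F} (hσ : ∀ x, σ x = x ^ 3) (hP : ∀ x y, hermForm 4 F 3 (P *ᵥ x) (P *ᵥ y) = gf c x y) :
    Matrix.SpecialLinearGroup (Fin 2) F →* SU 4 F 3 where
  toFun g := mkSU (P * dM σ g * Q)
    (by
      have h1 : P.det * Q.det = 1 := by rw [← det_mul, hPQ, det_one]
      rw [det_mul, det_mul, det_dM, g.2, map_one, mul_one, mul_one, h1])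
    (by
      intro u v
      rw [← mulVec_mulVec, ← mulVec_mulVec, ← mulVec_mulVec, ← mulVec_mulVec, hP, gf_dM hF c hσ g.2, ← hP, mulVec_mulVec,
        mulVec_mulVec, hPQ, one_mulVec, one_mulVec])
  map_one' := by
    apply mat_injective
    change P * dM σ 1 * Q = 1
    rw [dM_one, mul_one, hPQ]
  map_mul' g h := by
    apply mat_injective
    change P * dM σ (g.1 * h.1) * Q = (P * dM σ g.1 * Q) * (P * dM σ h.1 * Q)
    rw [dM_mul]
    calc P * (dM σ g.1 * dM σ h.1) * Q = P * dM σ g.1 * 1 * dM σ h.1 * Q := by simp only [Matrix.mul_assoc, Matrix.one_mul]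
      _ = _ := by rw [← hQP]; simp only [Matrix.mul_assoc]

end Emb

section CaseB

variable {F : Type} [Field F] [Fintype F]

/-- `|PSU_4(3)| = 3265920` -/
theorem card_psu43 (hF : Fintype.card F = 3 ^ 2) : Nat.card (PSU 4 F 3) = 3265920 := by
  have h := Cfsg.Agent.S0280.result hF 4 (by norm_num)
  simp only [Finset.prod_range_succ, Finset.prod_range_zero] at h
  norm_num only [Nat.even_iff, _root_.ite_true, _root_.one_mul, _root_.ite_false] at h
  omega

/-- `|SL_2(9)| = 720` -/
theorem card_sl29 (hF : Fintype.card F = 3 ^ 2) : Nat.card (Matrix.SpecialLinearGroup (Fin 2) F) = 720 := by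
  have h := Cfsg.Agent.S0242.result (F := F) rfl 2 (by norm_num)
  rw [Fin.prod_univ_two, hF] at h
  simp only [Fin.val_zero, Fin.val_one, pow_zero, pow_one] at h
  norm_num at h
  omega

/-- two nonproportional products -/
theorem exists_pq : ∃ u u' : Matrix.SpecialLinearGroup (Fin 2) F, (u : Matrix (Fin 2) (Fin 2) F) = !![1, 0; 1, 1] ∧
    (u' : Matrix (Fin 2) (Fin 2) F) = !![1, 1; 0, 1] :=
  ⟨⟨!![1, 0; 1, 1], by simp [Matrix.det_fin_two]⟩, ⟨!![1, 1; 0, 1], by simp [Matrix.det_fin_two]⟩, rfl, rfl⟩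

/-- **totally isotropic fixed space** -/
theorem false_of_isotropic (hF : Fintype.card F = 3 ^ 2) {a : SU 4 F 3} (ha : a ^ 3 = 1)
    (hRC : RC (MulAut.conj (pr 4 F 3 a))) (hker : ∀ v, act a v = v → hermForm 4 F 3 v v = 0) : False := by
  have hch := charP_three hF
  have : Fact (Nat.Prime 3) := ⟨Nat.prime_three⟩
  have h3 : (3 : F) = 0 := by exact_mod_cast (CharP.cast_eq_zero F 3)
  obtain ⟨σ, hσ⟩ := ClassicalGeometry.GUBasic.exists_powHom hF
  let T : (Fin 4 → F) →ₗ[F] (Fin 4 → F) := Matrix.mulVecLin (mat a) - LinearMap.id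
  have hT : ∀ v, T v = act a v - v := fun v => rfl
  have haT : ∀ v, act a v = v + T v := fun v => by rw [hT]; abel
  obtain ⟨v, w, c, hc, hTTv, hTTw, hvv', hvw', hww', hvv, hvw, hww, hvTv, hwTw, hvTw, hTvw⟩ := exists_pair hF h3 (T := T)
    (by
      intro u v
      have h1 := herm_act a u v
      rw [haT u, haT v, herm_add_left, herm_add_right hF, herm_add_right hF] at h1
      linear_combination h1)
    (by
      intro v
      have h1 : act a (act a (act a v)) = v := by
        rw [← act_mul, ← act_mul, ← pow_two, ← pow_succ, ha, act_one]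
      rw [hT, hT, hT]
      simp only [act_sub]
      rw [h1]
      funext i
      simp only [Pi.sub_apply, Pi.zero_apply]
      linear_combination (act a v i - act a (act a v) i) * h3)
    (by
      intro v hv
      apply hker
      rw [haT, hv, add_zero])
  -- the matrix
  set P : Matrix (Fin 4) (Fin 4) F := Matrix.of (fun i j => (![v, T v, w, T w] j) i) with hPdef
  have hPx : ∀ x : Fin 4 → F, P *ᵥ x = x 0 • v + x 1 • T v + x 2 • w + x 3 • T w := by
    intro x
    funext i
    simp only [hPdef, Matrix.mulVec, dotProduct, Fin.sum_univ_four, _root_.Nat.succ_eq_add_one, _root_.Nat.reduceAdd, _root_.Matrix.cons_val', _root_.Matrix.cons_val_fin_one, _root_.Matrix.of_apply, _root_.Fin.isValue, _root_.Matrix.cons_val_zero, _root_.Matrix.cons_val_one, _root_.Matrix.cons_val, _root_.Pi.add_apply, _root_.Pi.smul_apply, _root_.smul_eq_mul]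
    ring
  have hP : ∀ x y, hermForm 4 F 3 (P *ᵥ x) (P *ᵥ y) = gf c x y := by
    intro x y
    have e1 : hermForm 4 F 3 (T v) v = 0 := herm_eq_zero_swap hF hvTv
    have e2 : hermForm 4 F 3 w v = 0 := herm_eq_zero_swap hF hvw
    have e3 : hermForm 4 F 3 (T w) w = 0 := herm_eq_zero_swap hF hwTw
    have e4 : hermForm 4 F 3 (T w) (T v) = 0 := herm_eq_zero_swap hF hvw'
    have e5 : hermForm 4 F 3 (T w) v = c ^ 3 := by rw [herm_swap hF, hvTw]
    have e6 : hermForm 4 F 3 w (T v) = -c ^ 3 := by rw [herm_swap hF, hTvw, neg_pow_q hF]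
    rw [hPx, hPx]
    simp only [herm_add_left, herm_add_right hF, herm_smul_left, herm_smul_right, hvv', hvw', hww', hvv, hvw, hww, hvTv,
      hwTw, hvTw, hTvw, e1, e2, e3, e4, e5, e6]
    unfold gf
    ring
  have hPu : IsUnit P := by
    rw [← Matrix.mulVec_injective_iff_isUnit]
    intro x y hxy
    have hxy' : P *ᵥ x = P *ᵥ y := hxy
    have h1 : x - y = 0 := by
      apply gf_nondeg hc
      intro z
      rw [← hP, mulVec_sub, hxy', sub_self, herm_zero_left]
    exact sub_eq_zero.1 h1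
  have hPd : IsUnit P.det := (Matrix.isUnit_iff_isUnit_det P).1 hPu
  have hPQ := Matrix.mul_nonsing_inv P hPd
  have hQP := Matrix.nonsing_inv_mul P hPd
  set Q := P⁻¹ with hQ
  let j := emb P Q hPQ hQP c hF hσ hP
  have hj : ∀ g, mat (j g) = P * dM σ g * Q := fun g => rfl
  obtain ⟨u, u', hu, hu'⟩ := exists_pq (F := F)
  -- `a` is in the image
  have hau : j u = a := by
    apply mat_injective
    rw [hj]
    have h1 : P * dM σ u = mat a * P := by
      apply Matrix.ext_of_mulVec_single
      intro i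
      rw [← mulVec_mulVec, ← mulVec_mulVec, dM_mulVec, hPx, hPx, ← act_def]
      simp only [act_add, act_smul, haT v, haT w, haT (T v), haT (T w), hTTv, hTTw, hu]
      (revert i; simp only [_root_.Fin.forall_fin_succ, _root_.Nat.succ_eq_add_one, Nat.reduceAdd, Fin.isValue, _root_.Matrix.of_apply, _root_.Matrix.cons_val', _root_.Matrix.cons_val_zero, _root_.Matrix.cons_val_fin_one, _root_.one_mul, _root_.Matrix.cons_val_one, _root_.MulZeroClass.zero_mul, _root_.add_zero, _root_.map_one, _root_.map_zero, _root_.Matrix.cons_val, _root_.smul_add, _root_.Pi.single_eq_same, _root_.one_smul, _root_.ne_eq, _root_.one_ne_zero, _root_.not_false_eq_true, _root_.Pi.single_eq_of_ne, Fin.reduceEq, _root_.zero_smul, _root_.Fin.succ_ne_zero, _root_.Pi.single_eq_of_ne', _root_.zero_add, _root_.Fin.succ_zero_eq_one, _root_.Fin.succ_one_eq_two, Fin.reduceSucc, _root_.IsEmpty.forall_iff, _root_.and_self])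
    rw [h1, Matrix.mul_assoc, hPQ, Matrix.mul_one]
  -- the subgroup
  let φ : Matrix.SpecialLinearGroup (Fin 2) F →* PSU 4 F 3 := (pr 4 F 3).comp j
  have hφ : ∀ g, φ g = pr 4 F 3 (j g) := fun _ => rfl
  set M : Subgroup (PSU 4 F 3) := φ.range with hM
  have haM : pr 4 F 3 a ∈ M := ⟨u, by rw [hφ, hau]⟩
  have hne : φ u * φ u' ≠ φ u' * φ u := by
    rw [← map_mul, ← map_mul, hφ, hφ]
    intro h
    obtain ⟨z, hz, hz'⟩ := exists_center_mul h
    obtain ⟨d, hd0, -, hd⟩ := exists_scalar_of_mem_center hF (by norm_num) hz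
    have h1 : mat z = d • (1 : Matrix (Fin 4) (Fin 4) F) := by
      apply Matrix.ext_of_mulVec_single
      intro i
      rw [← act_def, hd, smul_mulVec, one_mulVec]
    have h2 := congrArg mat hz'
    rw [mat_mul, hj, hj, h1, Matrix.mul_smul, Matrix.mul_one] at h2
    have h4 : dM σ ((u' * u : Matrix.SpecialLinearGroup (Fin 2) F) : Matrix (Fin 2) (Fin 2) F) =
        d • dM σ ((u * u' : Matrix.SpecialLinearGroup (Fin 2) F) : Matrix (Fin 2) (Fin 2) F) := by
      have h5 : ∀ X : Matrix (Fin 4) (Fin 4) F, Q * (P * X * Q) * P = X := by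
        intro X
        calc Q * (P * X * Q) * P = (Q * P) * X * (Q * P) := by simp only [Matrix.mul_assoc]
          _ = X := by rw [hQP, Matrix.one_mul, Matrix.mul_one]
      have h6 := congrArg (fun X => Q * X * P) h2
      simp only [Matrix.mul_smul, Matrix.smul_mul] at h6
      rwa [h5, h5] at h6
    have h01 := congrFun (congrFun h4 0) 1
    have h00 := congrFun (congrFun h4 0) 0
    simp only [dM, hu, hu', Matrix.mul_apply, Fin.sum_univ_two, _root_.Fin.isValue, _root_.Matrix.SpecialLinearGroup.coe_mul, _root_.Matrix.of_apply, _root_.Matrix.cons_val', _root_.Matrix.cons_val_fin_one, _root_.Matrix.cons_val_zero, _root_.mul_one, _root_.Matrix.cons_val_one, _root_.MulZeroClass.mul_zero, _root_.zero_add, _root_.map_add, _root_.map_one, _root_.add_zero, _root_.Matrix.smul_apply, _root_.smul_eq_mul] at h01 h00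
    rw [← h01] at h00
    have : (1 : F) = 0 := by linear_combination h00
    exact one_ne_zero this
  have hMtop : M ≠ ⊤ := by
    intro h
    have h1 : Nat.card M ≤ 720 := by
      rw [← card_sl29 hF]
      exact Nat.card_le_card_of_surjective _ φ.rangeRestrict_surjective
    rw [h, Nat.card_congr Subgroup.topEquiv.toEquiv, card_psu43 hF] at h1
    omega
  have hinv : ∀ m ∈ M, MulAut.conj (pr 4 F 3 a) m ∈ M := by
    intro m hm
    rw [MulAut.conj_apply]
    exact mul_mem (mul_mem haM hm) (inv_mem haM)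
  have hnt : Nontrivial M := by
    refine ⟨⟨⟨_, haM⟩, 1, fun h => hne ?_⟩⟩
    have h1 : pr 4 F 3 a = 1 := congrArg Subtype.val h
    rw [hφ u, hau, h1, one_mul, mul_one]
  have hquasi : IsQuasisimple M :=
    Cfsg.Agent.SignalizersComponents.QuasisimpleQuotient.isQuasisimple_of_surjective φ.rangeRestrict
      φ.rangeRestrict_surjective
      (Cfsg.Agent.SignalizersComponents.SLQuasisimple.isQuasisimple_two (by rw [Nat.card_eq_fintype_card, hF]; norm_num))
  have h1 := hRC.eq_of_quasisimple hMtop hinv hquasi (m := φ u') ⟨u', rfl⟩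
  rw [MulAut.conj_apply, mul_inv_eq_iff_eq_mul, ← hau, ← hφ] at h1
  exact hne h1

end CaseB

/-- **The row `PSU_4(3)`.** -/
theorem irow (F : Type) [Field F] [Fintype F] (hF : Fintype.card F = 3 ^ 2) : IRow (PSU 4 F 3) := by
  intro x hx hR _
  have : Fact (Nat.Prime 3) := ⟨Nat.prime_three⟩
  have hch := charP_three hF
  have hx3 : x ^ 3 = 1 := orderOf_dvd_iff_pow_eq_one.1 (by rw [hx])
  obtain ⟨y, rfl⟩ := inner_of_cube hF hx3
  have hy : y ^ 3 = 1 := by
    apply conj_injective hF
    rw [map_pow, hx3, map_one]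
  obtain ⟨a, rfl, l, hl⟩ := exists_lift (n := 4) hF (by norm_num) (p := 3) (x := y) (k := 1) (by rwa [pow_one])
  have ha3 : a ^ 3 = 1 := by
    apply eq_one_of_pr hF (by norm_num) (r := 3) (k := l)
    · rw [← pow_mul, mul_comm, pow_mul, hl, one_pow]
    · rw [map_pow, hy]
  have ha1 : a ≠ 1 := by
    rintro rfl
    rw [map_one, map_one, orderOf_one] at hx
    omega
  by_cases h : ∃ v, act a v = v ∧ hermForm 4 F 3 v v ≠ 0
  · obtain ⟨v, hv, hvv⟩ := h
    exact ha1 (eq_one_of_fix hF (l := 1) (by rwa [pow_one]) hR hv hvv)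
  · push Not at h
    exact false_of_isotropic hF ha3 hR h

/-- **The row `PSU_4(3)`, up to isomorphism.** -/
theorem irow_psu43 {K : Type*} [Group K] [Finite K] [IsSimpleGroup K] {F : Type} [Field F] [Fintype F]
    (hF : Fintype.card F = 9) (e : Nonempty (K ≃* Cfsg.PSU 4 F 3)) : Cfsg.Agent.H959.Rad3.IRow K := by
  obtain ⟨e⟩ := e
  exact (irow F (by rw [hF]; norm_num)).congr e

end Cfsg.Agent.H454.PsuThree
end

private theorem dce_6a0e49b9f0bc : _root_.True := by
  try have : _root_.True := by simp only [_root_.Cfsg.Agent.H454.PsuThree.dM.eq_1]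
  exact _root_.True.intro
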