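import Cfsg.Agent.H698.FinePR
import Cfsg.Agent.H487.SchurMult
import Mathlib
import Cfsg.Agent.H454.SpExt
import Cfsg.Agent.H175.BdSp_m3
import Cfsg.Agent.H912.CrossList_m3
import Cfsg.Agent.S0245
import Cfsg.Agent.S0246
import Cfsg.Agent.S0270
import Cfsg.Agent.S0814
import Cfsg.Agent.S2092
import Cfsg.Agent.Prune
set_option linter.all false
prune_inst 0x7f00000000000000000000000000000000000000000000000000000000000000000000000000000000000000000000000000000000000000000000000000000000000000000000000000000000000000003fffffffffffffffffffffffffffbeffbdffffffff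
open scoped Cfsg.Agent.FastGrp

-- part: H454/FineAux
section
/-!
# Auxiliary facts for the condition `Fine` (helper454, S4881)

* `fine_of_nonab` : one may assume that `T` is not commutative;
* `fine_of_bd` : the criterion used for the classical groups;
* numerical inequalities.
-/

set_option autoImplicit false

namespace Cfsg.Agent.H454.FineAux

universe u v w

open Cfsg.Agent.H698 Cfsg.Agent.H912.Bd

theorem perfect_of_rep {p m : ℕ} {T : Type u} [Group T] (h : Rep.{u, w} p m T) : commutator T = ⊤ := by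
  obtain ⟨F, _, _, _, P, _, _, π, ρ, h1, h2, h3, h4, h5⟩ := h
  have h6 : (commutator P).map π = commutator T := by
    rw [commutator_def, commutator_def, Subgroup.map_commutator, ← MonoidHom.range_eq_map, MonoidHom.range_eq_top.2 h1]
  rw [← h6, h3, ← MonoidHom.range_eq_map, MonoidHom.range_eq_top.2 h1]

theorem fine_of_nonab {T : Type u} [Group T] [Finite T] [IsSimpleGroup T] (h : ¬ IsMulCommutative T → Fine.{u, w} T) :
    Fine.{u, w} T := by
  intro p m hp h11 hpT hm hR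
  refine h ?_ p m hp h11 hpT hm hR
  intro hc
  have h1 := perfect_of_rep hR
  have h2 : commutator T = ⊥ := by
    rw [commutator_def, Subgroup.commutator_eq_bot_iff_le_centralizer]
    intro x _
    rw [Subgroup.mem_centralizer_iff]
    intro y _
    exact hc.1.1 y x
  rw [h1] at h2
  exact absurd h2 top_ne_bot

theorem center_eq_bot {T : Type u} [Group T] [IsSimpleGroup T] (hT : ¬ IsMulCommutative T) :
    Subgroup.center T = ⊥ := by
  rcases (inferInstance : (Subgroup.center T).Normal).eq_bot_or_eq_top with h | h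
  · exact h
  · exfalso
    apply hT
    refine ⟨⟨fun a b => ?_⟩⟩
    have h1 : b ∈ Subgroup.center T := by rw [h]; trivial
    exact Subgroup.mem_center_iff.1 h1 a

theorem card_mulAut_congr {G : Type u} {H : Type v} [Group G] [Group H] (e : G ≃* H) :
    Nat.card (MulAut G) = Nat.card (MulAut H) := Nat.card_congr (MulAut.congr e).toEquiv

/-- The criterion for the classical groups. -/
theorem fine_of_bd {T : Type u} [Group T] [Finite T] [IsSimpleGroup T] {r d a : ℕ} (hr : r.Prime) (hrT : r ∣ Nat.card T)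
    (hM : Cfsg.HasCyclicSchurMultiplier T a) (ha : a.Coprime r)
    (hB : ∀ (F : Type u) [Field F], (r : F) ≠ 0 → Bd F r (d + 1) T) (h : Nat.card (MulAut T) ≤ 11 ^ d) :
    Fine.{u, u} T := by
  refine fine_of_nonab fun hna => ?_
  refine Fine.of_eleven (center_eq_bot hna) (Finite.one_lt_card_iff_nontrivial.2 inferInstance) (d := d) ?_ h
  intro p m hp _ hpT _ hR
  refine hR.le_of_Bd hp hr hrT hpT hM ?_ hB
  have : Nat.card (Multiplicative (ZMod a)) = a := by
    rw [Nat.card_congr Multiplicative.toAdd, Nat.card_zmod]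
  rw [this]
  exact ha

/-! ### numbers -/

theorem le_two_pow_pred {q : ℕ} (hq : 1 ≤ q) : q ≤ 2 ^ (q - 1) := by
  have := Nat.lt_two_pow_self (n := q - 1)
  omega

theorem two_mul_le_two_pow (f : ℕ) (hf : 1 ≤ f) : 2 * f ≤ 2 ^ f := by
  induction f, hf using Nat.le_induction with
  | base => norm_num
  | succ n hn ih =>
    rw [pow_succ]
    omega

theorem two_f_le {p f : ℕ} (hp : 2 ≤ p) (hf : 1 ≤ f) : 2 * f ≤ p ^ f :=
  (two_mul_le_two_pow f hf).trans (Nat.pow_le_pow_left hp f)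

/-- `q ^ a ≤ 11 ^ b` if `(q - 1) a ≤ 3 b` -/
theorem pow_le_eleven {q a b : ℕ} (hq : 1 ≤ q) (h : (q - 1) * a ≤ 3 * b) : q ^ a ≤ 11 ^ b := by
  calc q ^ a ≤ (2 ^ (q - 1)) ^ a := Nat.pow_le_pow_left (le_two_pow_pred hq) a
    _ = 2 ^ ((q - 1) * a) := by rw [← pow_mul]
    _ ≤ 2 ^ (3 * b) := Nat.pow_le_pow_right (by norm_num) h
    _ = 8 ^ b := by rw [pow_mul]; norm_num
    _ ≤ 11 ^ b := Nat.pow_le_pow_left (by norm_num) b

end Cfsg.Agent.H454.FineAux
end

-- part: H454/FinePsp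
section
/-!
# `Fine` for `PSp_2m(q)` (helper454, S4881)
-/

set_option autoImplicit false

namespace Cfsg.Agent.H454.FinePsp

universe u v

open Cfsg.Agent.H698 Cfsg.Agent.H912.Bd Cfsg.Agent.H454.FineAux Matrix

section card

variable {F : Type*} [Field F] [Fintype F]

theorem card_psp {m q : ℕ} (hF : Fintype.card F = q) (hm : 1 ≤ m) :
    Nat.gcd 2 (q - 1) * Nat.card (Cfsg.PSp m F) = q ^ (m ^ 2) * ∏ i ∈ Finset.range m, (q ^ (2 * (i + 1)) - 1) := by
  have h1 := S0245.result (F := F) hF m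
  have h2 := S0246.result (F := F) hF m hm
  have h3 := Subgroup.card_eq_card_quotient_mul_card_subgroup
    (Subgroup.center (Matrix.symplecticGroup (Fin m) F))
  rw [h1, h2] at h3
  rw [mul_comm]
  exact h3.symm

theorem card_le {m q : ℕ} (hF : Fintype.card F = q) (hm : 1 ≤ m) :
    Nat.gcd 2 (q - 1) * Nat.card (Cfsg.PSp m F) ≤ q ^ (2 * m ^ 2 + m) := by
  rw [card_psp hF hm]
  have h1 : ∀ k : ℕ, ∏ i ∈ Finset.range k, (q ^ (2 * (i + 1)) - 1) ≤ q ^ (k * (k + 1)) := by
    intro k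
    induction k with
    | zero => simp
    | succ k ih =>
      rw [Finset.prod_range_succ]
      calc _ ≤ q ^ (k * (k + 1)) * q ^ (2 * (k + 1)) := Nat.mul_le_mul ih (Nat.sub_le _ _)
        _ = _ := by rw [← pow_add]; congr 1; ring
  calc _ ≤ q ^ (m ^ 2) * q ^ (m * (m + 1)) := Nat.mul_le_mul_left _ (h1 m)
    _ = _ := by rw [← pow_add]; congr 1; ring

theorem dvd_card {m q r : ℕ} (hF : Fintype.card F = q) (hm : 1 ≤ m) (hr : r.Prime) (hrq : r ∣ q) :
    r ∣ Nat.card (Cfsg.PSp m F) := by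
  have hq1 : 1 < q := hF ▸ Fintype.one_lt_card
  have h1 := card_psp hF hm
  have h3 : r ∣ Nat.gcd 2 (q - 1) * Nat.card (Cfsg.PSp m F) := by
    rw [h1]
    exact Dvd.dvd.mul_right (hrq.trans (dvd_pow_self q (by positivity))) _
  rcases (Nat.Prime.dvd_mul hr).1 h3 with h5 | h5
  · exfalso
    have h6 := h5.trans (Nat.gcd_dvd_right _ _)
    have h4 := (Nat.dvd_sub_iff_right (by omega : 1 ≤ q) hrq).1 h6
    exact hr.one_lt.ne' (Nat.dvd_one.1 h4)
  · exact h5

end card

/-! ### inequalities -/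

theorem sq_le_two_pow (q : ℕ) : q ^ 2 ≤ 2 ^ (q + 1) := by
  induction q with
  | zero => norm_num
  | succ q ih =>
    rcases (by omega : q = 0 ∨ q = 1 ∨ q = 2 ∨ 3 ≤ q) with rfl | rfl | rfl | h
    · norm_num
    · norm_num
    · norm_num
    · rw [pow_succ 2 (q + 1)]
      nlinarith

/-- `q ^ a ≤ 11 ^ b` if `(q + 1) a ≤ 6 b` -/
theorem pow_le_eleven' {q a b : ℕ} (h : (q + 1) * a ≤ 6 * b) : q ^ a ≤ 11 ^ b := by
  have h1 : (q ^ a) ^ 2 ≤ (11 ^ b) ^ 2 := by
    calc (q ^ a) ^ 2 = (q ^ 2) ^ a := by rw [← pow_mul, ← pow_mul, mul_comm]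
      _ ≤ (2 ^ (q + 1)) ^ a := Nat.pow_le_pow_left (sq_le_two_pow q) a
      _ = 2 ^ ((q + 1) * a) := by rw [← pow_mul]
      _ ≤ 2 ^ (6 * b) := Nat.pow_le_pow_right (by norm_num) h
      _ = 64 ^ b := by rw [pow_mul]; norm_num
      _ ≤ 121 ^ b := Nat.pow_le_pow_left (by norm_num) b
      _ = (11 ^ b) ^ 2 := by rw [← pow_mul, mul_comm, pow_mul]; norm_num
  exact (Nat.pow_le_pow_iff_left two_ne_zero).1 h1

/-- `q` even -/
theorem num_even {m q : ℕ} (hm : 2 ≤ m) (hq : 2 ≤ q) (h : (m = 2 ∨ m = 3) → 4 ≤ q) :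
    (q - 1) * (2 * m ^ 2 + m + 1) + 6 ≤ 3 * q ^ m := by
  obtain ⟨a, rfl⟩ : ∃ a, q = a + 1 := ⟨q - 1, by omega⟩
  rw [Nat.add_sub_cancel]
  have step : ∀ m, 2 ≤ m → a * (2 * m ^ 2 + m + 1) + 6 ≤ 3 * (a + 1) ^ m →
      a * (2 * (m + 1) ^ 2 + (m + 1) + 1) + 6 ≤ 3 * (a + 1) ^ (m + 1) := by
    intro m hm ih
    rw [pow_succ (a + 1) m]
    have h1 : 2 * (3 * (a + 1) ^ m) ≤ (a + 1) * (3 * (a + 1) ^ m) := Nat.mul_le_mul_right _ (by omega)
    have h2 : 2 * (m + 1) ^ 2 + (m + 1) + 1 ≤ 2 * (2 * m ^ 2 + m + 1) := by nlinarith only [hm]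
    have h3 : a * (2 * (m + 1) ^ 2 + (m + 1) + 1) ≤ a * (2 * (2 * m ^ 2 + m + 1)) := Nat.mul_le_mul_left _ h2
    linarith only [ih, h1, h3]
  have base2 : 3 ≤ a → a * (2 * 2 ^ 2 + 2 + 1) + 6 ≤ 3 * (a + 1) ^ 2 := by
    intro ha
    nlinarith
  have base4 : a * (2 * 4 ^ 2 + 4 + 1) + 6 ≤ 3 * (a + 1) ^ 4 := by
    have ha : 1 ≤ a := by omega
    have e : 3 * (a + 1) ^ 4 = 3 * a ^ 4 + 12 * a ^ 3 + 18 * a ^ 2 + 12 * a + 3 := by ring
    rw [e]
    have h2 : a ≤ a ^ 2 := by nlinarith only []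
    have h3 : a ^ 2 ≤ a ^ 3 := by rw [pow_succ a 2]; nlinarith only [hq]
    have h4 : a ^ 3 ≤ a ^ 4 := by rw [pow_succ a 3]; nlinarith only [h2]
    linarith only [hq, h2, h3, h4]
  rcases (by omega : m = 2 ∨ m = 3 ∨ 4 ≤ m) with rfl | rfl | h4
  · exact base2 (by omega)
  · exact step 2 le_rfl (base2 (by omega))
  · clear h hm
    induction m, h4 using Nat.le_induction with
    | base => exact base4
    | succ m hm ih => exact step m (by omega) ih

/-- `q` odd, `(m, q) ≠ (3, 3)` -/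
theorem num_odd {m q : ℕ} (hm : 2 ≤ m) (hq : 3 ≤ q) (h : m = 2 → 5 ≤ q) (h33 : ¬ (m = 3 ∧ q = 3)) (hodd : q ≠ 4) :
    (q + 1) * (2 * m ^ 2 + m + 1) + 9 ≤ 3 * q ^ m := by
  obtain ⟨a, rfl⟩ : ∃ a, q = a + 3 := ⟨q - 3, by omega⟩
  have step : ∀ m, 2 ≤ m → (a + 3 + 1) * (2 * m ^ 2 + m + 1) + 9 ≤ 3 * (a + 3) ^ m →
      (a + 3 + 1) * (2 * (m + 1) ^ 2 + (m + 1) + 1) + 9 ≤ 3 * (a + 3) ^ (m + 1) := by
    intro m hm ih
    rw [pow_succ (a + 3) m]
    have h1 : 2 * (3 * (a + 3) ^ m) ≤ (a + 3) * (3 * (a + 3) ^ m) := Nat.mul_le_mul_right _ (by omega)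
    have h2 : 2 * (m + 1) ^ 2 + (m + 1) + 1 ≤ 2 * (2 * m ^ 2 + m + 1) := by nlinarith only [hm]
    have h3 : (a + 3 + 1) * (2 * (m + 1) ^ 2 + (m + 1) + 1) ≤ (a + 3 + 1) * (2 * (2 * m ^ 2 + m + 1)) :=
      Nat.mul_le_mul_left _ h2
    linarith only [ih, h1, h3]
  have base2 : 2 ≤ a → (a + 3 + 1) * (2 * 2 ^ 2 + 2 + 1) + 9 ≤ 3 * (a + 3) ^ 2 := by
    intro ha
    nlinarith
  have base4 : (a + 3 + 1) * (2 * 4 ^ 2 + 4 + 1) + 9 ≤ 3 * (a + 3) ^ 4 := by
    have e : 3 * (a + 3) ^ 4 = 3 * a ^ 4 + 36 * a ^ 3 + 162 * a ^ 2 + 324 * a + 243 := by ring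
    rw [e]
    linarith only [Nat.zero_le (a ^ 3), Nat.zero_le (a ^ 4), _root_.sq_nonneg (↑a : ℤ), _root_.Nat.cast_nonneg (α := ℤ) (a)]
  rcases (by omega : m = 2 ∨ m = 3 ∨ 4 ≤ m) with rfl | rfl | h4
  · exact base2 (by omega)
  · exact step 2 le_rfl (base2 (by omega))
  · clear h hm h33
    induction m, h4 using Nat.le_induction with
    | base => exact base4
    | succ m hm ih => exact step m (by omega) ih

/-! ### `Sp_6(2)` -/

section SpSix

open Cfsg.Agent.H203.BdSL2 Cfsg.Agent.H203.LS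

theorem sl_simple {K : Type*} [Field K] [Fintype K] (h2 : (2 : K) = 0) (h4 : 4 ≤ Fintype.card K) :
    IsSimpleGroup (SpecialLinearGroup (Fin 2) K) := by
  have hs : IsSimpleGroup (ProjectiveSpecialLinearGroup (Fin 2) K) :=
    Matrix.ProjectiveSpecialLinearGroup.rank_two_simple (by rw [Nat.card_eq_fintype_card]; omega)
  have hZ : Subgroup.center (SpecialLinearGroup (Fin 2) K) = ⊥ := by
    rw [eq_bot_iff]
    intro x hx
    obtain ⟨r, hr, hrx⟩ := Matrix.SpecialLinearGroup.mem_center_iff.1 hx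
    rw [Fintype.card_fin] at hr
    have h1 : r = 1 := by
      have h3 : (r - 1) ^ 2 = 0 := by linear_combination hr - r * h2 + h2
      exact sub_eq_zero.1 (pow_eq_zero_iff two_ne_zero |>.1 h3)
    rw [Subgroup.mem_bot]
    apply Subtype.ext
    rw [← hrx, h1]
    simp
  have hnt : Nontrivial (SpecialLinearGroup (Fin 2) K) :=
    (QuotientGroup.mk_surjective (s := Subgroup.center (SpecialLinearGroup (Fin 2) K))).nontrivial
  have e : ProjectiveSpecialLinearGroup (Fin 2) K ≃* SpecialLinearGroup (Fin 2) K :=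
    (QuotientGroup.quotientMulEquivOfEq hZ).trans QuotientGroup.quotientBot
  exact IsSimpleGroup.isSimpleGroup_of_surjective e.toMonoidHom e.surjective

/-- `Rep p m T` and `SL(2, 8) ≤ T` give `7 ≤ m`. -/
theorem seven_le {T : Type u} [Group T] [Finite T] {p m : ℕ} (hp : p.Prime) (hpT : ¬ p ∣ Nat.card T)
    (hR : Rep.{u, u} p m T) {K : Type*} [Field K] [Fintype K] (hK : Fintype.card K = 8) [CharP K 2]
    (g : SpecialLinearGroup (Fin 2) K →* T) (hg : Function.Injective g) : 7 ≤ m := by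
  have h2 : (2 : K) = 0 := by exact_mod_cast CharP.cast_eq_zero K 2
  have hs : IsSimpleGroup (SpecialLinearGroup (Fin 2) K) := sl_simple h2 (by omega)
  let S : Subgroup T := g.range
  let e : SpecialLinearGroup (Fin 2) K ≃* S := MonoidHom.ofInjective hg
  have hnt : Nontrivial S := e.symm.toEquiv.nontrivial
  have hsS : IsSimpleGroup S := IsSimpleGroup.isSimpleGroup_of_surjective e.toMonoidHom e.surjective
  have hup : up (1 : K) ≠ 1 := by
    intro h
    have h1 := congrArg (fun A : SpecialLinearGroup (Fin 2) K => (A : Matrix (Fin 2) (Fin 2) K) 0 1) h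
    simp [up] at h1
  have hna : ¬ IsMulCommutative S := by
    intro hc
    have h1 := hc.1.1 (e (up 1)) (e (lo 1))
    rw [← map_mul, ← map_mul] at h1
    have h3 := e.injective h1
    have h4 := congrArg (fun A : SpecialLinearGroup (Fin 2) K => (A : Matrix (Fin 2) (Fin 2) K) 0 0) h3
    simp only [Matrix.SpecialLinearGroup.coe_mul] at h4
    simp only [up, lo, Matrix.mul_apply, Fin.sum_univ_two, _root_.Cfsg.Agent.H203.BdSL2.up, _root_.Cfsg.Agent.H203.BdSL2.lo, _root_.Fin.isValue, _root_.Matrix.mul_apply, _root_.Matrix.of_apply, _root_.Matrix.cons_val', _root_.Matrix.cons_val_fin_one, _root_.Matrix.cons_val_zero, _root_.Fin.sum_univ_two, _root_.mul_one, _root_.Matrix.cons_val_one, _root_.MulZeroClass.mul_zero, _root_.add_zero, _root_.add_eq_left, _root_.one_ne_zero] at h4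
  have hcS : Nat.card S ∣ Nat.card T := Subgroup.card_subgroup_dvd_card S
  have h2S : 2 ∣ Nat.card S := by
    have h1 : orderOf (up (1 : K)) = 2 := by
      refine orderOf_eq_prime ?_ hup
      rw [pow_two, ← up_add]
      have : (1 : K) + 1 = 0 := by rw [← h2]; norm_num
      rw [this, up_zero]
    rw [← h1, ← Nat.card_congr e.toEquiv]
    exact orderOf_dvd_natCard _
  have hLS : LS.{u, u, u} 2 ((8 - 1) / Nat.gcd 2 (8 - 1)) S :=
    LS.sl2 hK (by norm_num) (by norm_num) e.toMonoidHom (x₀ := 1) (by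
      intro h
      exact hup ((MulEquiv.map_eq_one_iff e).1 h))
  have h1 := (hR.sub hna S.subtype Subtype.coe_injective).le_of_LS hp Nat.prime_two h2S
    (fun h => hpT (h.trans hcS)) hLS
  norm_num at h1
  exact h1

/-- `Sp_6(2)` -/
theorem fine_sp6 {T : Type u} [Group T] [Finite T] {F : Type} [Field F] [Fintype F] (hF : Fintype.card F = 2)
    (e : T ≃* Cfsg.PSp 3 F) : Cfsg.Agent.H698.Fine.{u, u} T := by
  have hs : IsSimpleGroup (Cfsg.PSp 3 F) := Cfsg.Agent.S0270.result 3 (by norm_num) (by norm_num)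
  have hnt : Nontrivial T := e.toEquiv.nontrivial
  have hsT : IsSimpleGroup T := IsSimpleGroup.isSimpleGroup_of_surjective e.symm.toMonoidHom e.symm.surjective
  have hc : Nat.card (Cfsg.PSp 3 F) = 1451520 := by
    have h1 := card_psp hF (m := 3) (by norm_num)
    simp only [Finset.prod_range_succ, _root_.Nat.add_one_sub_one, _root_.Nat.gcd_one_right, _root_.one_mul, _root_.Nat.reducePow, _root_.Finset.prod_range_succ, _root_.Finset.range_one, _root_.Finset.prod_singleton, _root_.zero_add, _root_.mul_one, _root_.Nat.reduceAdd, _root_.Nat.reduceMul] at h1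
    exact h1
  have hA : Nat.card (MulAut T) = 1451520 := by
    have : Fact (Nat.Prime 2) := ⟨Nat.prime_two⟩
    rw [card_mulAut_congr e, Cfsg.Agent.S0814.result 2 1 le_rfl (by rw [hF, pow_one]) 3 (by norm_num) (by norm_num), hc]
    norm_num
  -- the embedding of `SL(2, 8)`
  have hfin : Fintype (GaloisField 2 3) := Fintype.ofFinite _
  have hK : Fintype.card (GaloisField 2 3) = 8 := by
    rw [← Nat.card_eq_fintype_card, GaloisField.card 2 3 (by norm_num)]; norm_num
  obtain ⟨φ, hφ⟩ := Cfsg.Agent.H454.SpExt.exists_sl_two (K := GaloisField 2 3) (F := F) (q := 2) (k := 3) (by norm_num)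
    (by rw [hK]; norm_num) hF
  have hZ : Subgroup.center (symplecticGroup (Fin 3) F) = ⊥ := by
    rw [← Subgroup.card_eq_one, S0246.result (F := F) hF 3 (by norm_num)]
    norm_num
  have hmk : Function.Injective (QuotientGroup.mk' (Subgroup.center (symplecticGroup (Fin 3) F))) := by
    rw [← MonoidHom.ker_eq_bot_iff, QuotientGroup.ker_mk', hZ]
  refine fine_of_nonab fun hna => ?_
  refine Fine.of_lt6 (center_eq_bot hna) (by rw [Nat.card_congr e.toEquiv, hc]; norm_num) ?_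
  intro p m hp h11 hpT _ hR
  have h7 : 7 ≤ m := seven_le hp hpT hR hK
    ((e.symm.toMonoidHom.comp (QuotientGroup.mk' (Subgroup.center (symplecticGroup (Fin 3) F)))).comp φ)
    ((e.symm.injective.comp hmk).comp hφ)
  rw [hA]
  have h1 : p ^ 7 ≤ p ^ m := Nat.pow_le_pow_right (by omega) h7
  have h2 : 11 ^ 6 ≤ p ^ 6 := Nat.pow_le_pow_left h11 6
  have h3 : p ^ 7 = p * p ^ 6 := by ring
  have h4 : p * 11 ^ 6 ≤ p * p ^ 6 := Nat.mul_le_mul_left _ h2
  norm_num only [] at h4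
  omega

end SpSix

/-- **`PSp_2m(q)`**. -/
theorem fine_psp {T : Type u} [Group T] [Finite T] {F : Type} [Field F] [Fintype F] {m : ℕ} (hm : 2 ≤ m)
    (h2 : m = 2 → 4 ≤ Fintype.card F) (e : T ≃* Cfsg.PSp m F) : Cfsg.Agent.H698.Fine.{u, u} T := by
  by_cases h32 : m = 3 ∧ Fintype.card F = 2
  · obtain ⟨rfl, hF⟩ := h32
    exact fine_sp6 hF e
  obtain ⟨p, hchar⟩ := CharP.exists F
  obtain ⟨k, hp, hF⟩ := FiniteField.card F p
  obtain ⟨f, hf, hkf⟩ : ∃ f : ℕ, 1 ≤ f ∧ (k : ℕ) = f := ⟨k, k.2, rfl⟩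
  rw [hkf] at hF
  have hpf : Fact p.Prime := ⟨hp⟩
  have hq2 : 2 ≤ p ^ f := by
    have := hF ▸ Fintype.one_lt_card (α := F)
    omega
  have hs : IsSimpleGroup (Cfsg.PSp m F) := Cfsg.Agent.S0270.result m hm (fun h => by have := h2 h; omega)
  have hnt : Nontrivial T := e.toEquiv.nontrivial
  have hsT : IsSimpleGroup T := IsSimpleGroup.isSimpleGroup_of_surjective e.symm.toMonoidHom e.symm.surjective
  have hcT : Nat.card T = Nat.card (Cfsg.PSp m F) := Nat.card_congr e.toEquiv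
  have hA : Nat.card (MulAut T) ≤ (p ^ f) ^ (2 * m ^ 2 + m + 1) := by
    rw [card_mulAut_congr e, Cfsg.Agent.S0814.result p f hf hF m hm (fun h => by have := h2 h; omega)]
    have h1 := card_le hF (show 1 ≤ m by omega)
    have h3 := two_f_le hp.two_le hf
    have h4 : (if m = 2 ∧ p = 2 then 2 else 1) ≤ 2 := by split_ifs <;> norm_num
    calc _ = ((if m = 2 ∧ p = 2 then 2 else 1) * f) * (Nat.gcd 2 (p ^ f - 1) * Nat.card (Cfsg.PSp m F)) := by ring
      _ ≤ (2 * f) * (p ^ f) ^ (2 * m ^ 2 + m) := Nat.mul_le_mul (Nat.mul_le_mul_right _ h4) h1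
      _ ≤ p ^ f * (p ^ f) ^ (2 * m ^ 2 + m) := Nat.mul_le_mul_right _ h3
      _ = _ := by rw [← pow_succ']
  have hM : Cfsg.HasCyclicSchurMultiplier T (Nat.gcd 2 (p ^ f - 1)) := by
    refine Cfsg.Agent.H487.HasSchurMultiplier.congr_left
      (Cfsg.Agent.S2092.result hF m hm (fun h => by have := h2 h; omega) (by rw [← hF]; exact h32)) e.symm
  have hcop : (Nat.gcd 2 (p ^ f - 1)).Coprime p := by
    refine (Nat.Coprime.symm ((Nat.Prime.coprime_iff_not_dvd hp).2 fun h => ?_))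
    have h4 := (Nat.dvd_sub_iff_right (by omega : 1 ≤ p ^ f) (dvd_pow_self p (by omega))).1 (h.trans (Nat.gcd_dvd_right _ _))
    exact hp.one_lt.ne' (Nat.dvd_one.1 h4)
  have hrT : p ∣ Nat.card T := by
    rw [hcT]
    exact dvd_card hF (by omega) hp (dvd_pow_self p (by omega))
  by_cases hp2 : p = 2
  · -- `q` even
    subst hp2
    have hnum : (2 ^ f - 1) * (2 * m ^ 2 + m + 1) + 6 ≤ 3 * (2 ^ f) ^ m := by
      refine num_even hm hq2 ?_
      rintro (h | h)
      · rw [← hF]; exact h2 h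
      · have h5 : f ≠ 1 := by
          rintro rfl
          exact h32 ⟨h, by rw [hF, pow_one]⟩
        calc 4 = 2 ^ 2 := by norm_num
          _ ≤ 2 ^ f := Nat.pow_le_pow_right (by norm_num) (by omega)
    refine fine_of_bd (r := 2) (d := (2 ^ f) ^ m - 2) hp hrT hM hcop ?_ ?_
    · intro K _ hK
      have h1 := Cfsg.Agent.H175.BdSp.bd_psp_even (F := K) hF (show 1 ≤ m by omega) (by exact_mod_cast hK) e
      refine h1.mono ?_
      omega
    · refine hA.trans (pow_le_eleven (by omega) ?_)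
      omega
  · -- `q` odd
    have hodd : Odd (p ^ f) := (hp.odd_of_ne_two hp2).pow
    have hq3 : 3 ≤ p ^ f := by
      obtain ⟨a, ha⟩ := hodd
      omega
    have hq4 : p ^ f ≠ 4 := by
      obtain ⟨a, ha⟩ := hodd
      omega
    have h9 : 9 ≤ (p ^ f) ^ m := by
      calc 9 = 3 ^ 2 := by norm_num
        _ ≤ (p ^ f) ^ 2 := Nat.pow_le_pow_left hq3 2
        _ ≤ (p ^ f) ^ m := Nat.pow_le_pow_right (by omega) hm
    refine fine_of_bd (r := p) (d := ((p ^ f) ^ m - 1) / 2 - 1) hp hrT hM hcop ?_ ?_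
    · intro K _ hK
      have h1 := Cfsg.Agent.H175.BdSp.bd_psp (F := K) hp hF (show 1 ≤ m by omega) hK e
      refine h1.mono ?_
      omega
    · by_cases h33 : m = 3 ∧ p ^ f = 3
      · obtain ⟨rfl, h3⟩ := h33
        rw [h3] at hA ⊢
        refine hA.trans ?_
        norm_num
      · have hnum := num_odd hm hq3 (fun h => by
          have h5 := h2 h
          rw [hF] at h5
          omega) h33 hq4
        refine hA.trans (pow_le_eleven' ?_)
        have ho : Odd ((p ^ f) ^ m) := hodd.pow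
        obtain ⟨b, hb⟩ := ho
        rw [hb] at hnum h9 ⊢
        have h6 : (2 * b + 1 - 1) / 2 - 1 = b - 1 := by omega
        rw [h6]
        omega

end Cfsg.Agent.H454.FinePsp
end

private theorem dce_e1915c57ebb1 : _root_.True := by
  try have : _root_.True := by simp only [_root_.Cfsg.Agent.H203.BdSL2.lo.eq_1]
  exact _root_.True.intro
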